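import Cfsg.Agent.Spor.He.Net
import Cfsg.Agent.Spor.He.BTC
import Cfsg.Agent.Spor.He.Link

set_option autoImplicit false
set_option Elab.async false
set_option maxRecDepth 100000

namespace Cfsg.Agent.Spor.HeC.M

open Cfsg.Agent.Comp.BN

def ws : List (List ℕ) := [[0], [2], [3], [4], [5], [0, 1, 0, 1], [1, 2, 3, 4, 1, 2, 3, 4, 1, 2, 3, 4, 1, 2, 3, 4, 1, 2, 3, 4, 1, 2, 3, 4, 1, 2, 3, 4]]

theorem orb0S_0 : orbC Cfsg.Agent.Spor.HeC.M.act [] [[0], [1], [2], [3], [4], [5], [6]] 6 (Nat.shiftLeft 1 0) (ones 2058) = true :=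
  by decide +kernel

theorem orb0S : OrbS Cfsg.Agent.Spor.HeC.M.π [] 0 (ones 2058) :=
  orbS_step Cfsg.Agent.Spor.HeC.M.spec (orbS_init Cfsg.Agent.Spor.HeC.M.π [] 0) orb0S_0

theorem orb0 : PModel.IsOrbit Cfsg.Agent.Spor.HeC.M.π 0 (ones 2058) 2058 :=
  PModel.isOrbit_of Cfsg.Agent.Spor.HeC.M.spec (nl := 7) (K := 12) Cfsg.Agent.Spor.HeC.M.out orb0S (by decide +kernel)

theorem hfix : allL (fixC Cfsg.Agent.Spor.HeC.M.act [0]) ws = true :=
  by decide +kernel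

noncomputable def so0S_S0 : ℕ := nat_lit 0xc32b6ccdfffd5fd2fff86f3ff2bfff9ecfbde73ffffd1fbcffdeff37efffb7fffce6f8effffbb8f7eff0ee3cdffdf19fc0bbc7df553f39bf7c87fefffb9cbff2ff377e9fbfe1ff5ffffffdffffffdb6fd1f3edfffffffbf3f703def43fc1fd633ffffbfa71ffa09f47323a7fe9819cce37a3c5e2fc5ec6f7f5dfff837f18ff7fe7fffffff8ffffbeb2da3bfdefdffff7fe41e1e8bbf47f1079fa687fe791c0bc72793800186c333fd2e27937ddfff03f11f9f7fffff7ff081e49f47bfff7c011c5f1c13c8e89d088461e4bc1ebc48e7fe0f88f7fff7c010efff02e811140434ffdde0e513f1e1ffe07e280c1e79ffbe101e2f8ec7393ff02b5d74a7a1c91bf08fe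

theorem so0S_0 : orbC (subAct Cfsg.Agent.Spor.HeC.M.act ws) [] [[0], [1], [2], [3], [4], [5], [6]] 5 (Nat.shiftLeft 1 1) so0S_S0 = true :=
  by decide +kernel

theorem so0S : OrbS (subT Cfsg.Agent.Spor.HeC.M.π ws) [] 1 so0S_S0 :=
  orbS_step (Cfsg.Agent.Spor.HeC.M.spec.sub ws) (orbS_init (subT Cfsg.Agent.Spor.HeC.M.π ws) [] 1) so0S_0

theorem so0 : PModel.IsOrbit (subT Cfsg.Agent.Spor.HeC.M.π ws) 1 so0S_S0 1360 :=
  PModel.isOrbit_of (Cfsg.Agent.Spor.HeC.M.spec.sub ws) (nl := ws.length) (K := 12) (PModel.subT_out Cfsg.Agent.Spor.HeC.M.π ws) so0S (by decide +kernel)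

noncomputable def so1S_S0 : ℕ := nat_lit 0x200200000000000400000004000c000020000000000c0000048000309040000000000000e0003200000000e04302002c0c000800001000000000000800040401e002000000200000020902e080200000000080078010b8000029cc000000000000740b80dc58000726300005c001d03a000000820007c80e7008008000000070000014d25c0001020000801be1807400b800006059780000007438186c0da259300c02c1d86c022000fc0ce060000000800f7e1b0038400083fec3a0e00c3700221731001843c143b71801e0770800083fee1000fd102e08c84000201f1aec0e1e001f81d061a0000041efe1d0711880000fd0a28a005e36c00f700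

theorem so1S_0 : orbC (subAct Cfsg.Agent.Spor.HeC.M.act ws) [] [[0], [1], [2], [3], [4], [5], [6]] 4 (Nat.shiftLeft 1 8) so1S_S0 = true :=
  by decide +kernel

theorem so1S : OrbS (subT Cfsg.Agent.Spor.HeC.M.π ws) [] 8 so1S_S0 :=
  orbS_step (Cfsg.Agent.Spor.HeC.M.spec.sub ws) (orbS_init (subT Cfsg.Agent.Spor.HeC.M.π ws) [] 8) so1S_0

theorem so1 : PModel.IsOrbit (subT Cfsg.Agent.Spor.HeC.M.π ws) 8 so1S_S0 425 :=
  PModel.isOrbit_of (Cfsg.Agent.Spor.HeC.M.spec.sub ws) (nl := ws.length) (K := 12) (PModel.subT_out Cfsg.Agent.Spor.HeC.M.π ws) so1S (by decide +kernel)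

noncomputable def so2S_S0 : ℕ := nat_lit 0x33cd493320000a00d000790000d000020300200000000004000200000000000000000031000044700000110c0000000001140080000000000000000000000000000000000000000800000000000000000000410000000000408842000400e0000000000000000002000000000000800000000000000000000000000000000000010000000000000000000040200000000000006100400000f8000000000000000040000258200000000000000000000002000080000000000000608000000000200001e000000060088a030000000000001000000000000100000003c003108200020000000000000000078240860000000000002046c0000400015800002400000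

theorem so2S_0 : orbC (subAct Cfsg.Agent.Spor.HeC.M.act ws) [] [[0], [1], [2], [3], [4], [5], [6]] 4 (Nat.shiftLeft 1 22) so2S_S0 = true :=
  by decide +kernel

theorem so2S : OrbS (subT Cfsg.Agent.Spor.HeC.M.π ws) [] 22 so2S_S0 :=
  orbS_step (Cfsg.Agent.Spor.HeC.M.spec.sub ws) (orbS_init (subT Cfsg.Agent.Spor.HeC.M.π ws) [] 22) so2S_0

theorem so2 : PModel.IsOrbit (subT Cfsg.Agent.Spor.HeC.M.π ws) 22 so2S_S0 136 :=
  PModel.isOrbit_of (Cfsg.Agent.Spor.HeC.M.spec.sub ws) (nl := ws.length) (K := 12) (PModel.subT_out Cfsg.Agent.Spor.HeC.M.π ws) so2S (by decide +kernel)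

noncomputable def so3S_S0 : ℕ := nat_lit 0xc000000041000018000000e003000100081000000000100000000000081000010000020e6020000000a8000640037800000463400d0048812000000000000000000000040000000000000004000000000000300000000004058e00580000c0000016040031c8003a000001390802000000000000000000000000000040000000000000000000000000000000e000000000186e3800080007004000cc00010000080000000000000000000000000000000000000000000020000174080421400002000000000000000000000000000000400e023090000000000000000000000100100000000000000000000000000000000000000000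

theorem so3S_0 : orbC (subAct Cfsg.Agent.Spor.HeC.M.act ws) [] [[0], [1], [2], [3], [4], [5], [6]] 4 (Nat.shiftLeft 1 164) so3S_S0 = true :=
  by decide +kernel

theorem so3S : OrbS (subT Cfsg.Agent.Spor.HeC.M.π ws) [] 164 so3S_S0 :=
  orbS_step (Cfsg.Agent.Spor.HeC.M.spec.sub ws) (orbS_init (subT Cfsg.Agent.Spor.HeC.M.π ws) [] 164) so3S_0

theorem so3 : PModel.IsOrbit (subT Cfsg.Agent.Spor.HeC.M.π ws) 164 so3S_S0 136 :=
  PModel.isOrbit_of (Cfsg.Agent.Spor.HeC.M.spec.sub ws) (nl := ws.length) (K := 12) (PModel.subT_out Cfsg.Agent.Spor.HeC.M.π ws) so3S (by decide +kernel)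

theorem chH_l0 : LevelOK (subT Cfsg.Agent.Spor.HeC.M.π ws) [] 1 1360 :=
  so0.level

theorem chH_c1 : levelC (subAct Cfsg.Agent.Spor.HeC.M.act ws) 12 [1] 17 [[0], [2], [3], [4], [5], [6]] 4 15 = true :=
  by decide +kernel

theorem chH_l1 : LevelOK (subT Cfsg.Agent.Spor.HeC.M.π ws) [1] 17 15 :=
  level_of_check (Cfsg.Agent.Spor.HeC.M.spec.sub ws) chH_c1

theorem chH_c2 : levelC (subAct Cfsg.Agent.Spor.HeC.M.act ws) 12 [17, 1] 116 [[0], [2], [3], [4], [5]] 2 96 = true :=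
  by decide +kernel

theorem chH_l2 : LevelOK (subT Cfsg.Agent.Spor.HeC.M.π ws) [17, 1] 116 96 :=
  level_of_check (Cfsg.Agent.Spor.HeC.M.spec.sub ws) chH_c2

theorem chH : ChainOK (subT Cfsg.Agent.Spor.HeC.M.π ws) [] [(1, 1360), (17, 15), (116, 96)] :=
  ⟨chH_l0, chH_l1, chH_l2, trivial⟩

theorem ch : ChainOK Cfsg.Agent.Spor.HeC.M.π [] [(0, 2058), (1, 1360), (17, 15), (116, 96)] :=
  ⟨orb0.level, ChainOK.of_sub Cfsg.Agent.Spor.HeC.M.spec hfix chH⟩

theorem mod : Nat.card Cfsg.Spor.He = 4030387200 ∧ ∃ ρ, PModel Cfsg.Agent.Spor.HeC.P Cfsg.Agent.Spor.HeC.x Cfsg.Agent.Spor.HeC.M.π [116, 17, 1, 0] ρ :=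
  Cfsg.Agent.Spor.HeC.link.1.model Cfsg.Agent.Spor.HeC.B.bound sat ch (by decide)

theorem card : Nat.card Cfsg.Spor.He = 4030387200 :=
  mod.1

noncomputable def ρ : Cfsg.Spor.He →* Equiv.Perm ℕ := Classical.choose mod.2

theorem model : PModel Cfsg.Agent.Spor.HeC.P Cfsg.Agent.Spor.HeC.x Cfsg.Agent.Spor.HeC.M.π [116, 17, 1, 0] ρ :=
  Classical.choose_spec mod.2

theorem hstab : gen (subT Cfsg.Agent.Spor.HeC.x ws) = fixS ρ [0] :=
  model.sub_eq_stab Cfsg.Agent.Spor.HeC.M.spec orb0 hfix chH (card.le.trans (by decide))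

theorem soP0 : OrbS Cfsg.Agent.Spor.HeC.M.π [0] 1 so0S_S0 :=
  OrbS.of_sub Cfsg.Agent.Spor.HeC.M.spec so0.orbS hfix

theorem soP1 : OrbS Cfsg.Agent.Spor.HeC.M.π [0] 8 so1S_S0 :=
  OrbS.of_sub Cfsg.Agent.Spor.HeC.M.spec so1.orbS hfix

theorem soP2 : OrbS Cfsg.Agent.Spor.HeC.M.π [0] 22 so2S_S0 :=
  OrbS.of_sub Cfsg.Agent.Spor.HeC.M.spec so2.orbS hfix

theorem soP3 : OrbS Cfsg.Agent.Spor.HeC.M.π [0] 164 so3S_S0 :=
  OrbS.of_sub Cfsg.Agent.Spor.HeC.M.spec so3.orbS hfix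

theorem primS0_0 : orbC (subAct Cfsg.Agent.Spor.HeC.M.act ([1] :: ws)) [] [[0], [1], [2], [3], [4], [5], [6], [7]] 7 (Nat.shiftLeft 1 0) (ones 2058) = true :=
  by decide +kernel

theorem primS0 : OrbS (subT Cfsg.Agent.Spor.HeC.M.π ([1] :: ws)) [] 0 (ones 2058) :=
  orbS_step (Cfsg.Agent.Spor.HeC.M.spec.sub ([1] :: ws)) (orbS_init (subT Cfsg.Agent.Spor.HeC.M.π ([1] :: ws)) [] 0) primS0_0

theorem prim0 : PrimOn Cfsg.Agent.Spor.HeC.M.π 0 (ones 2058) so0S_S0 :=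
  primOn_of Cfsg.Agent.Spor.HeC.M.spec (g := [1]) (hs := ws) (by decide +kernel) soP0 primS0

theorem prim2 : PrimOn Cfsg.Agent.Spor.HeC.M.π 0 (ones 2058) so2S_S0 :=
  PrimOn.of_word Cfsg.Agent.Spor.HeC.M.spec (g := [6, 3, 4, 2, 3, 2, 1]) (hs := ws) prim0 (by decide +kernel) soP2 [0, 0] (by decide +kernel)

theorem prim1 : PrimOn Cfsg.Agent.Spor.HeC.M.π 0 (ones 2058) so1S_S0 :=
  PrimOn.of_word Cfsg.Agent.Spor.HeC.M.spec (g := [4, 3, 0, 1, 2, 3, 2, 1]) (hs := ws) prim0 (by decide +kernel) soP1 [0, 0] (by decide +kernel)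

theorem prim3 : PrimOn Cfsg.Agent.Spor.HeC.M.π 0 (ones 2058) so3S_S0 :=
  PrimOn.of_word Cfsg.Agent.Spor.HeC.M.spec (g := [1, 2, 3, 5, 3, 4, 3, 2, 3, 2, 1]) (hs := ws) prim0 (by decide +kernel) soP3 [0, 0] (by decide +kernel)

theorem prim : AllP (PrimOn Cfsg.Agent.Spor.HeC.M.π 0 (ones 2058)) [so0S_S0, so1S_S0, so2S_S0, so3S_S0] :=
  ⟨prim0, prim1, prim2, prim3, trivial⟩

theorem cover : subs (ones 2058) (orL [so0S_S0, so1S_S0, so2S_S0, so3S_S0] (Nat.shiftLeft 1 0)) = true :=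
  by decide +kernel

theorem st0 : fixC Cfsg.Agent.Spor.HeC.M.act [116, 17, 1, 0] (substU Cfsg.Agent.Spor.HeC.P.inv.length [3, 5, 6] [7, 6, 7, 6, 7, 6]) = true :=
  by decide +kernel

theorem st1 : fixC Cfsg.Agent.Spor.HeC.M.act [116, 17, 1, 0] (substU Cfsg.Agent.Spor.HeC.P.inv.length [3, 5, 6] [4, 6, 5, 6, 5]) = true :=
  by decide +kernel

theorem st2 : fixC Cfsg.Agent.Spor.HeC.M.act [116, 17, 1, 0] (substU Cfsg.Agent.Spor.HeC.P.inv.length [3, 5, 6] [3, 4, 3, 4, 3, 4]) = true :=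
  by decide +kernel

theorem st3 : fixC Cfsg.Agent.Spor.HeC.M.act [116, 17, 1, 0] (substU Cfsg.Agent.Spor.HeC.P.inv.length [3, 5, 6] [3, 5, 3, 5, 3, 5]) = true :=
  by decide +kernel

theorem st4 : fixC Cfsg.Agent.Spor.HeC.M.act [116, 17, 1, 0] (substU Cfsg.Agent.Spor.HeC.P.inv.length [3, 5, 6] [3, 5, 7, 5, 3, 2, 3, 5, 7, 5, 3, 2, 3, 5, 7, 5, 3, 2, 3, 5, 7, 5, 3, 2, 3, 5, 7, 5, 3, 2, 3, 5, 7, 5, 3, 2, 3, 5, 7, 5, 3, 2]) = true :=
  by decide +kernel

theorem st5 : fixC Cfsg.Agent.Spor.HeC.M.act [116, 17, 1, 0] (substU Cfsg.Agent.Spor.HeC.P.inv.length [3, 5, 6] [1, 2, 1, 2, 1, 2]) = true :=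
  by decide +kernel

theorem st6 : fixC Cfsg.Agent.Spor.HeC.M.act [116, 17, 1, 0] (substU Cfsg.Agent.Spor.HeC.P.inv.length [3, 5, 6] [4, 2, 1, 0, 2, 1, 0, 2, 1, 0]) = true :=
  by decide +kernel

theorem simple : IsSimpleGroup Cfsg.Spor.He :=
  model.simple Cfsg.Agent.Spor.HeC.M.spec card orb0 prim cover (by decide +kernel) (u := [3, 5, 6]) (m := 7) (by norm_num) (by decide +kernel)
    (steps := [(6, [7, 6, 7, 6, 7, 6]), (4, [4, 6, 5, 6, 5]), (3, [3, 4, 3, 4, 3, 4]), (5, [3, 5, 3, 5, 3, 5]), (2, [3, 5, 7, 5, 3, 2, 3, 5, 7, 5, 3, 2, 3, 5, 7, 5, 3, 2, 3, 5, 7, 5, 3, 2, 3, 5, 7, 5, 3, 2, 3, 5, 7, 5, 3, 2, 3, 5, 7, 5, 3, 2]), (1, [1, 2, 1, 2, 1, 2]), (0, [4, 2, 1, 0, 2, 1, 0, 2, 1, 0])])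
    ⟨st0, st1, st2, st3, st4, st5, st6, trivial⟩ (by decide +kernel)

end Cfsg.Agent.Spor.HeC.M
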