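import Cfsg.Agent.Comp.BitModel

set_option autoImplicit false
set_option Elab.async false
set_option maxRecDepth 100000

namespace Cfsg.Agent.Spor.HeC

open Cfsg.Agent.Comp.BN

def P1 : Pres := ⟨[0, 1, 2, 3],
  [[0, 1, 0, 1, 0, 1, 0, 1],
   [0, 2, 0, 2],
   [0, 3, 0, 3],
   [1, 2, 1, 2, 1, 2],
   [1, 3, 1, 3],
   [2, 3, 2, 3],
   [3, 2, 1, 0, 2, 1, 0, 2, 1, 0]]⟩

namespace A1
noncomputable def m0_0 : ℕ := nat_lit 0x4e7268

noncomputable def m0_1 : ℕ := nat_lit 0xf9d00085d

noncomputable def m0_2 : ℕ := nat_lit 0xc00601e031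

noncomputable def m0_3 : ℕ := nat_lit 0x1470470031c4

noncomputable def m0_4 : ℕ := nat_lit 0x8000040

noncomputable def m0_5 : ℕ := nat_lit 0x92412012090

noncomputable def m0_6 : ℕ := nat_lit 0x201040048001

noncomputable def m0_7 : ℕ := nat_lit 0x180080082104

noncomputable def m0_8 : ℕ := nat_lit 0x600c018034

noncomputable def m0_9 : ℕ := nat_lit 0x620007a2

noncomputable def m0_10 : ℕ := nat_lit 0x4e7268

noncomputable def net0 : Net := (.cons 24 m0_0 (.cons 12 m0_1 (.cons 6 m0_2 (.cons 3 m0_3 (.cons 1 m0_4 (.cons 1 m0_5 (.cons 1 m0_6 (.cons 3 m0_7 (.cons 6 m0_8 (.cons 12 m0_9 (.cons 24 m0_10 .nil)))))))))))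

theorem ok0 : Net.ok 48 net0 = true :=
  by decide +kernel

noncomputable def m1_0 : ℕ := nat_lit 0x1a7808

noncomputable def m1_1 : ℕ := nat_lit 0xff7000b53

noncomputable def m1_2 : ℕ := nat_lit 0x2402803b013

noncomputable def m1_3 : ℕ := nat_lit 0xc0184044182

noncomputable def m1_4 : ℕ := nat_lit 0x40248200009

noncomputable def m1_5 : ℕ := nat_lit 0x490490480012

noncomputable def m1_6 : ℕ := nat_lit 0x248200241041

noncomputable def m1_7 : ℕ := nat_lit 0x4000102002

noncomputable def m1_8 : ℕ := nat_lit 0x2000402c004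

noncomputable def m1_9 : ℕ := nat_lit 0x80004ac

noncomputable def m1_10 : ℕ := nat_lit 0x1a7808

noncomputable def net1 : Net := (.cons 24 m1_0 (.cons 12 m1_1 (.cons 6 m1_2 (.cons 3 m1_3 (.cons 1 m1_4 (.cons 1 m1_5 (.cons 1 m1_6 (.cons 3 m1_7 (.cons 6 m1_8 (.cons 12 m1_9 (.cons 24 m1_10 .nil)))))))))))

theorem ok1 : Net.ok 48 net1 = true :=
  by decide +kernel

noncomputable def m2_0 : ℕ := nat_lit 0xd58646

noncomputable def m2_1 : ℕ := nat_lit 0x417000ff7

noncomputable def m2_2 : ℕ := nat_lit 0x2f00900a021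

noncomputable def m2_3 : ℕ := nat_lit 0x1060800c7003

noncomputable def m2_4 : ℕ := nat_lit 0x201048200200

noncomputable def m2_5 : ℕ := nat_lit 0x402090490490

noncomputable def m2_6 : ℕ := nat_lit 0x249249201040

noncomputable def m2_7 : ℕ := nat_lit 0x2184102084

noncomputable def m2_8 : ℕ := nat_lit 0x26000010010

noncomputable def m2_9 : ℕ := nat_lit 0xbe8000008

noncomputable def m2_10 : ℕ := nat_lit 0xd58646

noncomputable def net2 : Net := (.cons 24 m2_0 (.cons 12 m2_1 (.cons 6 m2_2 (.cons 3 m2_3 (.cons 1 m2_4 (.cons 1 m2_5 (.cons 1 m2_6 (.cons 3 m2_7 (.cons 6 m2_8 (.cons 12 m2_9 (.cons 24 m2_10 .nil)))))))))))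

theorem ok2 : Net.ok 48 net2 = true :=
  by decide +kernel

noncomputable def m3_0 : ℕ := nat_lit 0x2c6f6b

noncomputable def m3_1 : ℕ := nat_lit 0x2b00000f

noncomputable def m3_2 : ℕ := nat_lit 0x3902d002

noncomputable def m3_3 : ℕ := nat_lit 0x1c10071421c3

noncomputable def m3_4 : ℕ := nat_lit 0x208200201

noncomputable def m3_5 : ℕ := nat_lit 0x490412490482

noncomputable def m3_6 : ℕ := nat_lit 0x48001048000

noncomputable def m3_7 : ℕ := nat_lit 0x4082000006

noncomputable def m3_8 : ℕ := nat_lit 0x2012006000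

noncomputable def m3_9 : ℕ := nat_lit 0xff0000fd4

noncomputable def m3_10 : ℕ := nat_lit 0xd39094

noncomputable def net3 : Net := (.cons 24 m3_0 (.cons 12 m3_1 (.cons 6 m3_2 (.cons 3 m3_3 (.cons 1 m3_4 (.cons 1 m3_5 (.cons 1 m3_6 (.cons 3 m3_7 (.cons 6 m3_8 (.cons 12 m3_9 (.cons 24 m3_10 .nil)))))))))))

theorem ok3 : Net.ok 48 net3 = true :=
  by decide +kernel

noncomputable def nets : List Net := [net0, net1, net2, net3]

noncomputable def act : Act := netAct nets
noncomputable def π : ℕ → Equiv.Perm ℕ := netPerm nets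

theorem spec : act.Spec 48 π :=
  netAct_spec (AllP.forall (p := fun t => Net.ok 48 t = true) ⟨ok0, ok1, ok2, ok3, trivial⟩)

theorem out : ∀ k, 4 ≤ k → π k = 1 :=
  netPerm_out nets

theorem sat_inv_0 : invC Cfsg.Agent.Spor.HeC.A1.act Cfsg.Agent.Spor.HeC.P1.I 48 6 Cfsg.Agent.Spor.HeC.P1.inv.length [0, 1, 2, 3, 4, 5] = true :=
  by decide +kernel

theorem sat_inv : ∀ k, Cfsg.Agent.Spor.HeC.A1.π (Cfsg.Agent.Spor.HeC.P1.I k) * Cfsg.Agent.Spor.HeC.A1.π k = 1 :=
  inv_of_checks Cfsg.Agent.Spor.HeC.A1.spec (K := 6) (by decide) Cfsg.Agent.Spor.HeC.A1.out [[0, 1, 2, 3, 4, 5]] (by decide) ⟨sat_inv_0, trivial⟩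

theorem sat_rel_0_0 : relsC Cfsg.Agent.Spor.HeC.A1.act Cfsg.Agent.Spor.HeC.P1.I 48 6 [[0, 1, 0, 1, 0, 1, 0, 1], [0, 2, 0, 2], [0, 3, 0, 3], [1, 2, 1, 2, 1, 2], [1, 3, 1, 3], [2, 3, 2, 3], [3, 2, 1, 0, 2, 1, 0, 2, 1, 0]] [0, 1, 2, 3, 4, 5] = true :=
  by decide +kernel

theorem sat_rel_0 : ∀ r ∈ ([[0, 1, 0, 1, 0, 1, 0, 1], [0, 2, 0, 2], [0, 3, 0, 3], [1, 2, 1, 2, 1, 2], [1, 3, 1, 3], [2, 3, 2, 3], [3, 2, 1, 0, 2, 1, 0, 2, 1, 0]] : List (List ℕ)), ev Cfsg.Agent.Spor.HeC.A1.π r = 1 :=
  rels_of_checks Cfsg.Agent.Spor.HeC.A1.spec (K := 6) (by decide) sat_inv _ [[0, 1, 2, 3, 4, 5]] (by decide) ⟨sat_rel_0_0, trivial⟩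

theorem sat_rel : ∀ r ∈ ([[0, 1, 0, 1, 0, 1, 0, 1], [0, 2, 0, 2], [0, 3, 0, 3], [1, 2, 1, 2, 1, 2], [1, 3, 1, 3], [2, 3, 2, 3], [3, 2, 1, 0, 2, 1, 0, 2, 1, 0]] : List (List ℕ)), ev Cfsg.Agent.Spor.HeC.A1.π r = 1 :=
  rels_join [[[0, 1, 0, 1, 0, 1, 0, 1], [0, 2, 0, 2], [0, 3, 0, 3], [1, 2, 1, 2, 1, 2], [1, 3, 1, 3], [2, 3, 2, 3], [3, 2, 1, 0, 2, 1, 0, 2, 1, 0]]] ⟨sat_rel_0, trivial⟩

theorem sat : Sat Cfsg.Agent.Spor.HeC.P1 Cfsg.Agent.Spor.HeC.A1.π :=
  ⟨Cfsg.Agent.Spor.HeC.A1.out, sat_inv, sat_rel⟩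

noncomputable def done_tr0 : ℕ := nat_lit 0x11114488634a

noncomputable def done_tr1 : ℕ := nat_lit 0x4545162d4a6c

noncomputable def done_tr2 : ℕ := nat_lit 0xaaaaa9529490

noncomputable def done_t0_0 : ℕ := nat_lit 0x4f4f30631825

noncomputable def done_t0_1 : ℕ := nat_lit 0xcbcbaf5ed6d8

noncomputable def done_t0_2 : ℕ := nat_lit 0x242400000000

noncomputable def done_t1_0 : ℕ := nat_lit 0x11114488634b

noncomputable def done_t1_1 : ℕ := nat_lit 0x3232a9529490

noncomputable def done_t1_2 : ℕ := nat_lit 0x898900000000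

noncomputable def done_t2_0 : ℕ := nat_lit 0xf4f4c3842127

noncomputable def done_t2_1 : ℕ := nat_lit 0x3838f9f39c90

noncomputable def done_t2_2 : ℕ := nat_lit 0xc6c600000000

noncomputable def done_t3_0 : ℕ := nat_lit 0x515156ad6b6f

noncomputable def done_t3_1 : ℕ := nat_lit 0

noncomputable def done_t3_2 : ℕ := nat_lit 0x555500000000

noncomputable def doneC : TC := ⟨Cfsg.Agent.Spor.HeC.P1, [], 48, 48, 6, 3, [done_tr0, done_tr1, done_tr2],
  [[done_t0_0, done_t0_1, done_t0_2],
   [done_t1_0, done_t1_1, done_t1_2],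
   [done_t2_0, done_t2_1, done_t2_2],
   [done_t3_0, done_t3_1, done_t3_2]]⟩

theorem done_s : doneC.structC Cfsg.Agent.Spor.HeC.A1.act = true :=
  by decide +kernel

theorem done_c0_0 : doneC.coverC Cfsg.Agent.Spor.HeC.A1.act 0 true [(2, 0), (3, 0), (6, 0)] [(false, 0, 0, 25), (false, 0, 0, 18), (false, 0, 0, 42), (false, 0, 0, 46), (false, 0, 0, 34), (false, 0, 0, 38)] 0 (ones 48) = true :=
  by decide +kernel

theorem done_j0 : doneC.JustS Cfsg.Agent.Spor.HeC.A1.π 0 (ones 48) :=
  TC.cover_step Cfsg.Agent.Spor.HeC.A1.spec done_s (TC.justS_zero 0) done_c0_0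

theorem done_c1_0 : doneC.coverC Cfsg.Agent.Spor.HeC.A1.act 1 true [(5, 0), (12, 0)] [(false, 18, 2, 13), (false, 18, 2, 41), (false, 18, 2, 8), (false, 18, 2, 33)] 0 (ones 48) = true :=
  by decide +kernel

theorem done_j1 : doneC.JustS Cfsg.Agent.Spor.HeC.A1.π 1 (ones 48) :=
  TC.cover_step Cfsg.Agent.Spor.HeC.A1.spec done_s (TC.justS_zero 1) done_c1_0

theorem done_c2_0 : doneC.coverC Cfsg.Agent.Spor.HeC.A1.act 2 true [(8, 0), (15, 0)] [(false, 3, 1, 21), (false, 3, 1, 28), (false, 3, 1, 31), (false, 3, 1, 11), (false, 3, 1, 24), (false, 3, 1, 16), (false, 9, 1, 9), (false, 9, 1, 14), (false, 9, 1, 3), (false, 9, 1, 6), (false, 9, 1, 30), (false, 9, 1, 23)] 0 (ones 48) = true :=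
  by decide +kernel

theorem done_j2 : doneC.JustS Cfsg.Agent.Spor.HeC.A1.π 2 (ones 48) :=
  TC.cover_step Cfsg.Agent.Spor.HeC.A1.spec done_s (TC.justS_zero 2) done_c2_0

theorem done_c3_0 : doneC.coverC Cfsg.Agent.Spor.HeC.A1.act 3 true [(11, 0)] [(false, 12, 1, 30), (false, 12, 1, 35), (false, 12, 1, 23), (false, 12, 1, 43), (false, 15, 1, 25), (false, 15, 1, 18)] 0 (ones 48) = true :=
  by decide +kernel

theorem done_j3 : doneC.JustS Cfsg.Agent.Spor.HeC.A1.π 3 (ones 48) :=
  TC.cover_step Cfsg.Agent.Spor.HeC.A1.spec done_s (TC.justS_zero 3) done_c3_0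

theorem done : doneC.Done Cfsg.Agent.Spor.HeC.A1.π :=
  TC.done_of Cfsg.Agent.Spor.HeC.A1.spec sat done_s ⟨done_j0, done_j1, done_j2, done_j3, trivial⟩

end A1

theorem b1 : Bound P1 48 :=
  A1.done.bound_bot rfl

def P2 : Pres := ⟨[0, 1, 2, 3, 4],
  [[0, 1, 0, 1, 0, 1, 0, 1],
   [0, 2, 0, 2],
   [0, 3, 0, 3],
   [0, 4, 0, 4],
   [1, 2, 1, 2, 1, 2],
   [1, 3, 1, 3],
   [1, 4, 1, 4],
   [2, 3, 2, 3, 2, 3, 2, 3, 2, 3, 2, 3, 2, 3, 2, 3, 2, 3, 2, 3],
   [2, 4, 2, 4],
   [3, 4, 3, 4, 3, 4],
   [4, 2, 1, 0, 2, 1, 0, 2, 1, 0],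
   [0, 3, 2, 3, 2, 3, 2, 3, 2, 3, 2]]⟩

namespace A2
noncomputable def m0_0 : ℕ := nat_lit 0xc1ddffbfdaef7aeb77dfdff7eb6af04cd2545100

noncomputable def m0_1 : ℕ := nat_lit 0xdfcbddbe20384120208000000000000000000000fdd0315972075aa96190

noncomputable def m0_2 : ℕ := nat_lit 0x8bb97d6e4400000000006250a38c43000000000074274206600000000000ba92b60760

noncomputable def m0_3 : ℕ := nat_lit 0x8f48900000d1d56000004bac200000262dc00000f185800000fcb0700000f63d20000039040

noncomputable def m0_4 : ℕ := nat_lit 0x1e2000570009b0039400189001b3002520009f003ff000eb0015d00340000e8003d20016c00288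

noncomputable def m0_5 : ℕ := nat_lit 0x180b06c190640904c16000150100006c0006c100581b03c1f0741b02c0d0401d008140301c02000

noncomputable def m0_6 : ℕ := nat_lit 0x1400000010040000080080810800100005200200002101400000810100000000000010142000000

noncomputable def m0_7 : ℕ := nat_lit 0x5280000902029024014210942508020214a5014042042029405014202900029400280a0294000000

noncomputable def m0_8 : ℕ := nat_lit 0x294000908401084200a5214a429005214a5280a029484214a5284a4094a401484090040148021420

noncomputable def m0_9 : ℕ := nat_lit 0x129025214a428481204a528485210a4284a10948129485294a5294a5294a029425284a0294042948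

noncomputable def m0_10 : ℕ := nat_lit 0x42001020000a500425080212808021481000a428425280a4204a5080852008409005014a529420

noncomputable def m0_11 : ℕ := nat_lit 0x28120300202010030060501406014010020300c060040001005002008060401c008140201002000

noncomputable def m0_12 : ℕ := nat_lit 0x2ea002bc00240001c4001360006c000da0025c0000000314002500014c000e8003d00012c00288

noncomputable def m0_13 : ℕ := nat_lit 0x8ecb000000c8b1200000498c0000001ced000000f1858000001640000000f23d20000039040

noncomputable def m0_14 : ℕ := nat_lit 0x867eeaffa20000000000e442aa82ec000000000074274206600000000000ba90360760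

noncomputable def m0_15 : ℕ := nat_lit 0x1efd9edc803c4488000000000000000000000000fdd0315972075aa96190

noncomputable def m0_16 : ℕ := nat_lit 0xc1ddffbfdaef7aeb77dfdff7eb6af04cd2545100

noncomputable def net0 : Net := (.cons 160 m0_0 (.cons 80 m0_1 (.cons 40 m0_2 (.cons 20 m0_3 (.cons 10 m0_4 (.cons 5 m0_5 (.cons 1 m0_6 (.cons 1 m0_7 (.cons 1 m0_8 (.cons 1 m0_9 (.cons 1 m0_10 (.cons 5 m0_11 (.cons 10 m0_12 (.cons 20 m0_13 (.cons 40 m0_14 (.cons 80 m0_15 (.cons 160 m0_16 .nil)))))))))))))))))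

theorem ok0 : Net.ok 320 net0 = true :=
  by decide +kernel

noncomputable def m1_0 : ℕ := nat_lit 0xc4d0f8c73809900c480201080010300000121800

noncomputable def m1_1 : ℕ := nat_lit 0x73233091f1040654618c00000000000000000000a169ff577c54494a54c0

noncomputable def m1_2 : ℕ := nat_lit 0x928d20c6520000000000fa0affc17c000000000064e27ece14000000000010b377f3a0

noncomputable def m1_3 : ℕ := nat_lit 0x79ec8000002ed4100000fb1580000049a76000009239800000316de00000fae5600000f3276

noncomputable def m1_4 : ℕ := nat_lit 0xd0000cf002ad0008d003b5000200031000342001660012600305003d60013f000d20035c001ee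

noncomputable def m1_5 : ℕ := nat_lit 0x44100580406c000041c07015018080001c01014078160041b0581507c1f050060381102c1502400

noncomputable def m1_6 : ℕ := nat_lit 0x8020010a00040000020000000002000000080000040009000000200000000020000200000000000

noncomputable def m1_7 : ℕ := nat_lit 0x529400294a009000014250002001400010052000028021280002142020020014200048000005000a

noncomputable def m1_8 : ℕ := nat_lit 0x29084214a509485280a52108520481000a4210002940521480294a52142401485000a52140021004

noncomputable def m1_9 : ℕ := nat_lit 0x529485294a5284a1294a5084a12942009485080052842408421094a4284a0094212142129005290a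

noncomputable def m1_10 : ℕ := nat_lit 0x20485200a4004a000424084a021001000a509021284002840429001284a508424200252900001024

noncomputable def m1_11 : ℕ := nat_lit 0x8000101404010000080100407010000000400007806050040480200010010040200c0001002000

noncomputable def m1_12 : ℕ := nat_lit 0x11000304001500014c0035a001c8003300026200066001260010c001b0000b0000140015c0016e

noncomputable def m1_13 : ℕ := nat_lit 0x7cd8c00000573840000005ea00000045a36000009218800000210de00000d861400000f3276

noncomputable def m1_14 : ℕ := nat_lit 0x90bd20c6e00000000000fa025b015c000000000064e27ece14000000000010b377f3a0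

noncomputable def m1_15 : ℕ := nat_lit 0x7321119171042646c18c00000000000000000000a169ff577c54494a54c0

noncomputable def m1_16 : ℕ := nat_lit 0xc4d0f8c73809900c480201080010300000121800

noncomputable def net1 : Net := (.cons 160 m1_0 (.cons 80 m1_1 (.cons 40 m1_2 (.cons 20 m1_3 (.cons 10 m1_4 (.cons 5 m1_5 (.cons 1 m1_6 (.cons 1 m1_7 (.cons 1 m1_8 (.cons 1 m1_9 (.cons 1 m1_10 (.cons 5 m1_11 (.cons 10 m1_12 (.cons 20 m1_13 (.cons 40 m1_14 (.cons 80 m1_15 (.cons 160 m1_16 .nil)))))))))))))))))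

theorem ok1 : Net.ok 320 net1 = true :=
  by decide +kernel

noncomputable def m2_0 : ℕ := nat_lit 0x1935e8bf006308b434500cad0029409450400000

noncomputable def m2_1 : ℕ := nat_lit 0x7de5eafed3c2ff347cc0000000000000000000024984849451084cc5800

noncomputable def m2_2 : ℕ := nat_lit 0x475249bfab00000000006da1e34b5900000000002928718f140000000000c0700b6500

noncomputable def m2_3 : ℕ := nat_lit 0xe00d8000002f45600000ade9900000421a40000069d27000001957700000e6dba000006cb20

noncomputable def m2_4 : ℕ := nat_lit 0xea001fc00276000d400131000790037b001740023800077001c5000680014f002bf0011600220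

noncomputable def m2_5 : ℕ := nat_lit 0x6012008160300202003024160401b06415038190701e048080781a0700c02809068090180207818

noncomputable def m2_6 : ℕ := nat_lit 0x20000000040000100020080000000001000014040000100001014000000508400000000002000000

noncomputable def m2_7 : ℕ := nat_lit 0x5000a0294a40042501401284a10800528005284a0000a5080a128000010a50808001400014a00800

noncomputable def m2_8 : ℕ := nat_lit 0x28025294852048528085210a52140421424214a50108421085294242948521004090802008501480

noncomputable def m2_9 : ℕ := nat_lit 0x5284a1094a1090a5214a4284a508425084a528420290a5284a1294a5284a5204a521484294a0084a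

noncomputable def m2_10 : ℕ := nat_lit 0x2508085004a1210812102420485014a0210852142101081294a40908501021004252802020080

noncomputable def m2_11 : ℕ := nat_lit 0x601200806030120000a030120500602014060100700e000180381a0201200000000080180203818

noncomputable def m2_12 : ℕ := nat_lit 0x4200186000300016800210001d20025e002f400238002560029400278000d0003a80009600200

noncomputable def m2_13 : ℕ := nat_lit 0xe88500000027cd000000d5b30000000366000000ef82200000ac24e000007e958000006c320

noncomputable def m2_14 : ℕ := nat_lit 0x5faa99f40000000000002c2c8cb0260000000000ad6045a1140000000000d078096500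

noncomputable def m2_15 : ℕ := nat_lit 0x6de1e8fcdbe2ef3c7400000000000000000000024984849451084cc5800

noncomputable def m2_16 : ℕ := nat_lit 0x1935e8bf006308b434500cad0029409450400000

noncomputable def net2 : Net := (.cons 160 m2_0 (.cons 80 m2_1 (.cons 40 m2_2 (.cons 20 m2_3 (.cons 10 m2_4 (.cons 5 m2_5 (.cons 1 m2_6 (.cons 1 m2_7 (.cons 1 m2_8 (.cons 1 m2_9 (.cons 1 m2_10 (.cons 5 m2_11 (.cons 10 m2_12 (.cons 20 m2_13 (.cons 40 m2_14 (.cons 80 m2_15 (.cons 160 m2_16 .nil)))))))))))))))))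

theorem ok2 : Net.ok 320 net2 = true :=
  by decide +kernel

noncomputable def m3_0 : ℕ := nat_lit 0x5feffffefdfffde7fffddffff957ff1b59985080

noncomputable def m3_1 : ℕ := nat_lit 0x38a32acc0c618ae6b64c00000000000000000000daed85850c2304800138

noncomputable def m3_2 : ℕ := nat_lit 0xb640b07de50000000000d0d10ca7620000000000336fe099950000000000b69071a8c8

noncomputable def m3_3 : ℕ := nat_lit 0xebb1f00000f9d9500000f219800000c4c9200000a37730000060fc100000b54ca00000b273c

noncomputable def m3_4 : ℕ := nat_lit 0x3c0017c001c20000e0035e0022c0025f003c4000a9000ee0036100390002f90002d0014e00335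

noncomputable def m3_5 : ℕ := nat_lit 0x6c1d07406040070580a0781106c0b0040d000160281904c04040020700c0280201c000740404004

noncomputable def m3_6 : ℕ := nat_lit 0x1000a000020000800002000000080800000008020200a0000000000000401080000000008000

noncomputable def m3_7 : ℕ := nat_lit 0x400025014a4004a4094010048001405014810000108485014002142000001280a5290a0080a10000

noncomputable def m3_8 : ℕ := nat_lit 0x214a4290a4290a5214a4280a5000a5294a42002021485294a1210852802421084214850900521005

noncomputable def m3_9 : ℕ := nat_lit 0x128485294a1214a1094a52942429425294252848529021094212942120425294a5084a520424294a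

noncomputable def m3_10 : ℕ := nat_lit 0x84000010002508485284240848129085290a101400094a0214840042508485290050840028404

noncomputable def m3_11 : ℕ := nat_lit 0x100001803818040080701c000040781a0401a0680002808000080600c02002040020000c03004

noncomputable def m3_12 : ℕ := nat_lit 0x2800054001d60004e0038a0022c003040005c000080002a001cc003200002c003fa0007400016

noncomputable def m3_13 : ℕ := nat_lit 0xc1ca800000ac9c8000007259a000004fbfa000002479c000002bf600000097ea600000b2634

noncomputable def m3_14 : ℕ := nat_lit 0xef7675bfb40000000000d1930687700000000000ec6217a712000000000014d679a9cc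

noncomputable def m3_15 : ℕ := nat_lit 0x2c601c4a58d42e228a9000000000000000000000fa7b8f1d04094001019c

noncomputable def m3_16 : ℕ := nat_lit 0x5f7ffffebdffffe3fffddbfffb75ff5bd9105080

noncomputable def net3 : Net := (.cons 160 m3_0 (.cons 80 m3_1 (.cons 40 m3_2 (.cons 20 m3_3 (.cons 10 m3_4 (.cons 5 m3_5 (.cons 1 m3_6 (.cons 1 m3_7 (.cons 1 m3_8 (.cons 1 m3_9 (.cons 1 m3_10 (.cons 5 m3_11 (.cons 10 m3_12 (.cons 20 m3_13 (.cons 40 m3_14 (.cons 80 m3_15 (.cons 160 m3_16 .nil)))))))))))))))))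

theorem ok3 : Net.ok 320 net3 = true :=
  by decide +kernel

noncomputable def m4_0 : ℕ := nat_lit 0x99adf7ef5d338e9c944ba4c28650cc0484000420

noncomputable def m4_1 : ℕ := nat_lit 0xfffb2bba79e080e65c7000000000000000000000782dd2a3ec208e5494b0

noncomputable def m4_2 : ℕ := nat_lit 0xbbfdb3a7df000000000086f83aef520000000000a799ed00be00000000009ac2265900

noncomputable def m4_3 : ℕ := nat_lit 0x68f2200000cdb2400000e5d6f00000319a9000006232400000c5a6200000e2d5c000004f4c4

noncomputable def m4_4 : ℕ := nat_lit 0xe700312000f900380001890015d0012b003060007200130001970023800035001f4001380032e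

noncomputable def m4_5 : ℕ := nat_lit 0x600b0081901c1f0481505c030581901801038010781105405050090480a078070541a0201e01c18

noncomputable def m4_6 : ℕ := nat_lit 0x4000000000401000010100120000000800048009400090200000000000000000002009000

noncomputable def m4_7 : ℕ := nat_lit 0x2000029400000202802501420280a5000a501424294012800529424080a00000500000014252800

noncomputable def m4_8 : ℕ := nat_lit 0x1481014a429005010a5294a429485294a5290a5294a029485294a5214052040429424204a529404

noncomputable def m4_9 : ℕ := nat_lit 0x1294a4284a1214a5294a5294a5294a529425084a529425284a5294a528421090a50948429425294a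

noncomputable def m4_10 : ℕ := nat_lit 0x908100425010a10048009085290a0200a00142401421214a40042001480010a5204202042520404

noncomputable def m4_11 : ℕ := nat_lit 0x2812050020581e010040380c050180080000804070140000a008080100000010070040201806018

noncomputable def m4_12 : ℕ := nat_lit 0x10800380002a000312001b200354000120038a00180001a400260003180007c00050001300032e

noncomputable def m4_13 : ℕ := nat_lit 0xcdb240000068f22000007e22400000084b400000671040000083ba000000e7c5c000004f4c4

noncomputable def m4_14 : ℕ := nat_lit 0x44024c5820000000000086f2324c500000000000a7996d00be00000000009a40265900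

noncomputable def m4_15 : ℕ := nat_lit 0xfffa2b3a79e088e45c7000000000000000000000782dd2a3ec208e5494b0

noncomputable def m4_16 : ℕ := nat_lit 0x99adf7ef5d338e9c944ba4c28650cc0484000420

noncomputable def net4 : Net := (.cons 160 m4_0 (.cons 80 m4_1 (.cons 40 m4_2 (.cons 20 m4_3 (.cons 10 m4_4 (.cons 5 m4_5 (.cons 1 m4_6 (.cons 1 m4_7 (.cons 1 m4_8 (.cons 1 m4_9 (.cons 1 m4_10 (.cons 5 m4_11 (.cons 10 m4_12 (.cons 20 m4_13 (.cons 40 m4_14 (.cons 80 m4_15 (.cons 160 m4_16 .nil)))))))))))))))))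

theorem ok4 : Net.ok 320 net4 = true :=
  by decide +kernel

noncomputable def nets : List Net := [net0, net1, net2, net3, net4]

noncomputable def act : Act := netAct nets
noncomputable def π : ℕ → Equiv.Perm ℕ := netPerm nets

theorem spec : act.Spec 320 π :=
  netAct_spec (AllP.forall (p := fun t => Net.ok 320 t = true) ⟨ok0, ok1, ok2, ok3, ok4, trivial⟩)

theorem out : ∀ k, 5 ≤ k → π k = 1 :=
  netPerm_out nets

theorem sat_inv_0 : invC Cfsg.Agent.Spor.HeC.A2.act Cfsg.Agent.Spor.HeC.P2.I 320 9 Cfsg.Agent.Spor.HeC.P2.inv.length [0, 1, 2, 3, 4, 5, 6, 7, 8] = true :=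
  by decide +kernel

theorem sat_inv : ∀ k, Cfsg.Agent.Spor.HeC.A2.π (Cfsg.Agent.Spor.HeC.P2.I k) * Cfsg.Agent.Spor.HeC.A2.π k = 1 :=
  inv_of_checks Cfsg.Agent.Spor.HeC.A2.spec (K := 9) (by decide) Cfsg.Agent.Spor.HeC.A2.out [[0, 1, 2, 3, 4, 5, 6, 7, 8]] (by decide) ⟨sat_inv_0, trivial⟩

theorem sat_rel_0_0 : relsC Cfsg.Agent.Spor.HeC.A2.act Cfsg.Agent.Spor.HeC.P2.I 320 9 [[0, 1, 0, 1, 0, 1, 0, 1], [0, 2, 0, 2], [0, 3, 0, 3], [0, 4, 0, 4], [1, 2, 1, 2, 1, 2], [1, 3, 1, 3], [1, 4, 1, 4], [2, 3, 2, 3, 2, 3, 2, 3, 2, 3, 2, 3, 2, 3, 2, 3, 2, 3, 2, 3], [2, 4, 2, 4], [3, 4, 3, 4, 3, 4], [4, 2, 1, 0, 2, 1, 0, 2, 1, 0], [0, 3, 2, 3, 2, 3, 2, 3, 2, 3, 2]] [0, 1, 2, 3, 4, 5, 6, 7, 8] = true :=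
  by decide +kernel

theorem sat_rel_0 : ∀ r ∈ ([[0, 1, 0, 1, 0, 1, 0, 1], [0, 2, 0, 2], [0, 3, 0, 3], [0, 4, 0, 4], [1, 2, 1, 2, 1, 2], [1, 3, 1, 3], [1, 4, 1, 4], [2, 3, 2, 3, 2, 3, 2, 3, 2, 3, 2, 3, 2, 3, 2, 3, 2, 3, 2, 3], [2, 4, 2, 4], [3, 4, 3, 4, 3, 4], [4, 2, 1, 0, 2, 1, 0, 2, 1, 0], [0, 3, 2, 3, 2, 3, 2, 3, 2, 3, 2]] : List (List ℕ)), ev Cfsg.Agent.Spor.HeC.A2.π r = 1 :=
  rels_of_checks Cfsg.Agent.Spor.HeC.A2.spec (K := 9) (by decide) sat_inv _ [[0, 1, 2, 3, 4, 5, 6, 7, 8]] (by decide) ⟨sat_rel_0_0, trivial⟩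

theorem sat_rel : ∀ r ∈ ([[0, 1, 0, 1, 0, 1, 0, 1], [0, 2, 0, 2], [0, 3, 0, 3], [0, 4, 0, 4], [1, 2, 1, 2, 1, 2], [1, 3, 1, 3], [1, 4, 1, 4], [2, 3, 2, 3, 2, 3, 2, 3, 2, 3, 2, 3, 2, 3, 2, 3, 2, 3, 2, 3], [2, 4, 2, 4], [3, 4, 3, 4, 3, 4], [4, 2, 1, 0, 2, 1, 0, 2, 1, 0], [0, 3, 2, 3, 2, 3, 2, 3, 2, 3, 2]] : List (List ℕ)), ev Cfsg.Agent.Spor.HeC.A2.π r = 1 :=
  rels_join [[[0, 1, 0, 1, 0, 1, 0, 1], [0, 2, 0, 2], [0, 3, 0, 3], [0, 4, 0, 4], [1, 2, 1, 2, 1, 2], [1, 3, 1, 3], [1, 4, 1, 4], [2, 3, 2, 3, 2, 3, 2, 3, 2, 3, 2, 3, 2, 3, 2, 3, 2, 3, 2, 3], [2, 4, 2, 4], [3, 4, 3, 4, 3, 4], [4, 2, 1, 0, 2, 1, 0, 2, 1, 0], [0, 3, 2, 3, 2, 3, 2, 3, 2, 3, 2]]] ⟨sat_rel_0, trivial⟩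

theorem sat : Sat Cfsg.Agent.Spor.HeC.P2 Cfsg.Agent.Spor.HeC.A2.π :=
  ⟨Cfsg.Agent.Spor.HeC.A2.out, sat_inv, sat_rel⟩

noncomputable def done_tr0 : ℕ := nat_lit 0x1d0d65de1b97adaf5f55a653b953f5b7f0b11d365daef4d5e4c877c2d85c0ba75f4cc3b0b9d66cc

noncomputable def done_tr1 : ℕ := nat_lit 0x1d022e30a0718295c32aa2290921540a859604502f86724ba440214602c1188b2f24410582ca214

noncomputable def done_tr2 : ℕ := nat_lit 0x62f9914b548e556a34d55dd6d6deabd55a69f3a9d0798db45bbfdab9ed36e674d0dbbeda6d35d6a

noncomputable def done_t0_0 : ℕ := nat_lit 0x1d093c78949f06b3566a5efc823cfa8a8e3492f8744cbfcb99dc83c981f33e4e363de703e38ee1d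

noncomputable def done_t0_1 : ℕ := nat_lit 0x69d99c12141780cc61147754c64c0d4f9a85943988af70f40ee3880a21663e87cfce1842c1f710e

noncomputable def done_t0_2 : ℕ := nat_lit 0x7622170a20bc800c9055a8d4861bf29f9bac6109def30c15f71863f5cd60ec31c1c1c71acc70e60

noncomputable def done_t0_3 : ℕ := nat_lit 0x1402009c000c2055d854864ffd8f9b95f689dee0fd15f907f3fe4296d2c01e1038852000000

noncomputable def done_t0_4 : ℕ := nat_lit 0x767b2b4974605523d78000031980000040420000010000000000000000000000000000000000000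

noncomputable def done_t1_0 : ℕ := nat_lit 0x479444104b17d18d2f90ad033917d7328011ac119c86e1f46db9e1d180688d831b1fcf00c0e6e4d

noncomputable def done_t1_1 : ℕ := nat_lit 0x72f9b14b5780556974510f82d45ea7e55a89d586513085b459ffde3bfd362630525bbefaed3552a

noncomputable def done_t1_2 : ℕ := nat_lit 0x58000084038b00430091508022802811006022068448183482100480080040400083003081218c0

noncomputable def done_t1_3 : ℕ := nat_lit 0x3830043029143802286ac3500e1ec2785397015886002821048c904860000001000000

noncomputable def done_t1_4 : ℕ := nat_lit 0x7dc464840c047800480400540000000020000008000000000000000000000000000000000000000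

noncomputable def done_t2_0 : ℕ := nat_lit 0x2b28220f90a7a5224281984469c0a400e4ce245a05003221b3f08392423e448a0b33c4b0629933

noncomputable def done_t2_1 : ℕ := nat_lit 0x6002026285867f3824ff147a1042a115142101667028869c408042808825242c706882174b1c458

noncomputable def done_t2_2 : ℕ := nat_lit 0x605f4b8c3b22080098020008a02000a061041802020808020000940450183300000000a73000080

noncomputable def done_t2_3 : ℕ := nat_lit 0x202003b022800982a002800300108000e00860008080a0008800087a00410000000004000000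

noncomputable def done_t2_4 : ℕ := nat_lit 0x6050100104405002248050040000000000000008000100000000000000000000000000000000000

noncomputable def done_t3_0 : ℕ := nat_lit 0x150b695a81972d25941a047a2142d5bed5a715560ca474df80c85746da9512ab6f6c82b5aade4d5

noncomputable def done_t3_1 : ℕ := nat_lit 0x10507ac1140af10c76ea00200212001400210066302020e640022800040080020204100010c208

noncomputable def done_t3_2 : ℕ := nat_lit 0x80000002162000a042a80001001d00440021006770a060e640021400000000020204100010c200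

noncomputable def done_t3_3 : ℕ := nat_lit 0x1420008042a80000021f00d40121036770a860e640023c000480904100000009000000

noncomputable def done_t3_4 : ℕ := nat_lit 0x90707be3aa5afb1cb45222b89100002a0000800000000000000000000000000000000000000000

noncomputable def done_t4_0 : ℕ := nat_lit 0x9c0c4a5c9317ad5482083ad4f295c62ae9eecd9ad92526ab4662d6e37ebec9b2b26716cc6cb337

noncomputable def done_t4_1 : ℕ := nat_lit 0x6096dc854c79d041eb8018042184062820c60e0803c7090a0f12842713603dc185910426c060880

noncomputable def done_t4_2 : ℕ := nat_lit 0x7f200200604100410000200020000008210600080406200b0800040002200400000000244000090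

noncomputable def done_t4_3 : ℕ := nat_lit 0x404100412000008020000028210608080606300b8803003411883100060018031000000

noncomputable def done_t4_4 : ℕ := nat_lit 0x7ff6fa952f20f8008b0a602c0000000000000006000000000000000000000000000000000000000

noncomputable def doneC : TC := ⟨Cfsg.Agent.Spor.HeC.P2, [[0], [1], [2], [4]], 315, 320, 9, 5, [done_tr0, done_tr1, done_tr2],
  [[done_t0_0, done_t0_1, done_t0_2, done_t0_3, done_t0_4],
   [done_t1_0, done_t1_1, done_t1_2, done_t1_3, done_t1_4],
   [done_t2_0, done_t2_1, done_t2_2, done_t2_3, done_t2_4],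
   [done_t3_0, done_t3_1, done_t3_2, done_t3_3, done_t3_4],
   [done_t4_0, done_t4_1, done_t4_2, done_t4_3, done_t4_4]]⟩

theorem done_s : doneC.structC Cfsg.Agent.Spor.HeC.A2.act = true :=
  by decide +kernel

theorem done_c0_0 : doneC.coverC Cfsg.Agent.Spor.HeC.A2.act 0 true [(2, 0), (3, 0), (6, 0), (9, 0)] [(true, 0, 0, 0)] 0 (ones 315) = true :=
  by decide +kernel

theorem done_j0 : doneC.JustS Cfsg.Agent.Spor.HeC.A2.π 0 (ones 315) :=
  TC.cover_step Cfsg.Agent.Spor.HeC.A2.spec done_s (TC.justS_zero 0) done_c0_0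

theorem done_c1_0 : doneC.coverC Cfsg.Agent.Spor.HeC.A2.act 1 true [(5, 0), (15, 0), (18, 0), (12, 0), (30, 5)] [(true, 1, 0, 0)] 0 (ones 315) = true :=
  by decide +kernel

theorem done_j1 : doneC.JustS Cfsg.Agent.Spor.HeC.A2.π 1 (ones 315) :=
  TC.cover_step Cfsg.Agent.Spor.HeC.A2.spec done_s (TC.justS_zero 1) done_c1_0

theorem done_c2_0 : doneC.coverC Cfsg.Agent.Spor.HeC.A2.act 2 true [(8, 0), (3, 1), (24, 0), (12, 1), (33, 2)] [(true, 2, 0, 0)] 0 (ones 315) = true :=
  by decide +kernel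

theorem done_j2 : doneC.JustS Cfsg.Agent.Spor.HeC.A2.π 2 (ones 315) :=
  TC.cover_step Cfsg.Agent.Spor.HeC.A2.spec done_s (TC.justS_zero 2) done_c2_0

theorem done_c3_0 : doneC.coverC Cfsg.Agent.Spor.HeC.A2.act 3 true [(11, 0), (6, 1), (15, 1), (27, 0), (33, 1)] [] 0 (ones 315) = true :=
  by decide +kernel

theorem done_j3 : doneC.JustS Cfsg.Agent.Spor.HeC.A2.π 3 (ones 315) :=
  TC.cover_step Cfsg.Agent.Spor.HeC.A2.spec done_s (TC.justS_zero 3) done_c3_0

theorem done_c4_0 : doneC.coverC Cfsg.Agent.Spor.HeC.A2.act 4 true [(14, 0), (18, 1), (24, 1), (27, 1)] [(true, 3, 0, 0), (false, 9, 1, 213), (false, 9, 1, 267)] 0 (ones 315) = true :=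
  by decide +kernel

theorem done_j4 : doneC.JustS Cfsg.Agent.Spor.HeC.A2.π 4 (ones 315) :=
  TC.cover_step Cfsg.Agent.Spor.HeC.A2.spec done_s (TC.justS_zero 4) done_c4_0

theorem done : doneC.Done Cfsg.Agent.Spor.HeC.A2.π :=
  TC.done_of Cfsg.Agent.Spor.HeC.A2.spec sat done_s ⟨done_j0, done_j1, done_j2, done_j3, done_j4, trivial⟩

end A2

theorem b2 : Bound Cfsg.Agent.Spor.HeC.P2 15120 :=
  A2.done.bound b1 (ws := [[0], [1], [2], [4]]) (c1 := [(36, 0), (36, 0), (36, 0), (36, 0)]) (c2 := [(0, 0), (3, 0), (9, 0), (12, 0), (18, 0), (24, 0), (30, 0)]) (by decide +kernel) ⟨inSub_of_mem (by decide), inSub_of_mem (by decide), inSub_of_mem (by decide), inSub_of_mem (by decide), trivial⟩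

theorem ch2_c0 : levelC Cfsg.Agent.Spor.HeC.A2.act 9 [] 0 [[0], [1], [2], [3], [4]] 7 315 = true :=
  by decide +kernel

theorem ch2_l0 : LevelOK Cfsg.Agent.Spor.HeC.A2.π [] 0 315 :=
  level_of_check Cfsg.Agent.Spor.HeC.A2.spec ch2_c0

theorem ch2_c1 : levelC Cfsg.Agent.Spor.HeC.A2.act 9 [0] 22 [[0], [1], [2], [4]] 2 48 = true :=
  by decide +kernel

theorem ch2_l1 : LevelOK Cfsg.Agent.Spor.HeC.A2.π [0] 22 48 :=
  level_of_check Cfsg.Agent.Spor.HeC.A2.spec ch2_c1

theorem ch2 : ChainOK Cfsg.Agent.Spor.HeC.A2.π [] [(0, 315), (22, 48)] :=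
  ⟨ch2_l0, ch2_l1, trivial⟩

theorem f2 : Faithful P2 A2.π [22, 0] :=
  faithful_of_chain b2 A2.sat ch2 (by decide)

theorem l2 : Conseq P2 [2, 3, 2, 3, 4, 3, 2, 3, 4, 2, 3, 2, 3, 4, 3] :=
  f2.conseq A2.spec (by decide +kernel)

def P3 : Pres := ⟨[0, 1, 2, 3],
  [[0, 1, 0, 1, 0, 1],
   [0, 2, 0, 2, 0, 2],
   [0, 3, 0, 3, 0, 3],
   [1, 2, 1, 2],
   [1, 3, 1, 3],
   [2, 3, 2, 3, 2, 3, 2, 3],
   [1, 3, 2, 3, 2]]⟩

namespace A3
noncomputable def m0_0 : ℕ := nat_lit 0xb6dbda000000000000000000

noncomputable def m0_1 : ℕ := nat_lit 0xeb97293fef62000000000000c2b168202210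

noncomputable def m0_2 : ℕ := nat_lit 0xb265680000005e0298000000254f28000000a6c670

noncomputable def m0_3 : ℕ := nat_lit 0x33c000c31000444000d800008810001110004e2000214

noncomputable def m0_4 : ℕ := nat_lit 0x2303100e00b00b02203f01601a02a00c01701e03a00803c

noncomputable def m0_5 : ℕ := nat_lit 0xc10c71401c00c1146106045001007082006102087183000

noncomputable def m0_6 : ℕ := nat_lit 0x200201000009200008200040001048201040200000000208

noncomputable def m0_7 : ℕ := nat_lit 0x490492002092402412492480012490402082410010400490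

noncomputable def m0_8 : ℕ := nat_lit 0x200041009008001008008200249040201001008001049209

noncomputable def m0_9 : ℕ := nat_lit 0x180006004002184106100180004006004080084004180000

noncomputable def m0_10 : ℕ := nat_lit 0x1801002a01c02402000001601a02a00c00002001a00c000

noncomputable def m0_11 : ℕ := nat_lit 0x2040005b0000444000d800000840000300004a2000390

noncomputable def m0_12 : ℕ := nat_lit 0xa271200000005e0298000000254f20000000a6c670

noncomputable def m0_13 : ℕ := nat_lit 0x6b972937ef620000000000008ab16d202010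

noncomputable def m0_14 : ℕ := nat_lit 0xb6dbda000000000000000000

noncomputable def net0 : Net := (.cons 96 m0_0 (.cons 48 m0_1 (.cons 24 m0_2 (.cons 12 m0_3 (.cons 6 m0_4 (.cons 3 m0_5 (.cons 1 m0_6 (.cons 1 m0_7 (.cons 1 m0_8 (.cons 3 m0_9 (.cons 6 m0_10 (.cons 12 m0_11 (.cons 24 m0_12 (.cons 48 m0_13 (.cons 96 m0_14 .nil)))))))))))))))

theorem ok0 : Net.ok 192 net0 = true :=
  by decide +kernel

noncomputable def m1_0 : ℕ := nat_lit 0x806444ffe6d0abffe4d42800

noncomputable def m1_1 : ℕ := nat_lit 0x82bea2bea280000000000000ac91ee5201a2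

noncomputable def m1_2 : ℕ := nat_lit 0x45e5c0000000c05a80000000a058a60000001cd338

noncomputable def m1_3 : ℕ := nat_lit 0x906000ef100025d00036a0001d0000cd40007f8000cb3

noncomputable def m1_4 : ℕ := nat_lit 0x3d00402400403003401c00003501103703802a03703603a

noncomputable def m1_5 : ℕ := nat_lit 0x1801840c70060870420040050421841021400800431450c1

noncomputable def m1_6 : ℕ := nat_lit 0x200240209201000001200001009008248040001009008041

noncomputable def m1_7 : ℕ := nat_lit 0x492482492482002002482012092012492490402412492492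

noncomputable def m1_8 : ℕ := nat_lit 0x200040249209249240200208248208009209001200048201

noncomputable def m1_9 : ℕ := nat_lit 0x180004000006000006004002102004000180100000004006

noncomputable def m1_10 : ℕ := nat_lit 0xc00400402403403000c00002001000000803000c020012

noncomputable def m1_11 : ℕ := nat_lit 0x9060004d0000d8800022a0003400006cc00065a00013c

noncomputable def m1_12 : ℕ := nat_lit 0xc5a300000000c05a80000000a3592600000030d708

noncomputable def m1_13 : ℕ := nat_lit 0x82bea2bea280000000000000ae91ee5280a2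

noncomputable def m1_14 : ℕ := nat_lit 0x806444ffe6d0abffe4d42800

noncomputable def net1 : Net := (.cons 96 m1_0 (.cons 48 m1_1 (.cons 24 m1_2 (.cons 12 m1_3 (.cons 6 m1_4 (.cons 3 m1_5 (.cons 1 m1_6 (.cons 1 m1_7 (.cons 1 m1_8 (.cons 3 m1_9 (.cons 6 m1_10 (.cons 12 m1_11 (.cons 24 m1_12 (.cons 48 m1_13 (.cons 96 m1_14 .nil)))))))))))))))

theorem ok1 : Net.ok 192 net1 = true :=
  by decide +kernel

noncomputable def m2_0 : ℕ := nat_lit 0xc364257ff4704b4f5810a000

noncomputable def m2_1 : ℕ := nat_lit 0x971df51ca41000000000000000aafa006010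

noncomputable def m2_2 : ℕ := nat_lit 0xf00fe0000000b30010000000f4b522000000424180

noncomputable def m2_3 : ℕ := nat_lit 0xe220005db000e3a000c9a0003d800081a0007f6000733

noncomputable def m2_4 : ℕ := nat_lit 0x1803601902301601c02801602101c00201e03203d01e017

noncomputable def m2_5 : ℕ := nat_lit 0x1050c2186006002083005146043144007182102102003141

noncomputable def m2_6 : ℕ := nat_lit 0x40041000008000200009001000000240001009008041000

noncomputable def m2_7 : ℕ := nat_lit 0x480492410410000480412012090080492412412092492482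

noncomputable def m2_8 : ℕ := nat_lit 0x40201201040208209049001201008240041041008200248

noncomputable def m2_9 : ℕ := nat_lit 0x100102084186080080000006002100000182102002100006

noncomputable def m2_10 : ℕ := nat_lit 0x1803603800400801c02800603001400201602a024000020

noncomputable def m2_11 : ℕ := nat_lit 0xa22000824000e1a000c9000059000081a0008ee00084c

noncomputable def m2_12 : ℕ := nat_lit 0xf00fe0000000b30010000000f4b520000000e80100

noncomputable def m2_13 : ℕ := nat_lit 0x971df51ca41000000000000000aafa006010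

noncomputable def m2_14 : ℕ := nat_lit 0xc364257ff4704b4f5810a000

noncomputable def net2 : Net := (.cons 96 m2_0 (.cons 48 m2_1 (.cons 24 m2_2 (.cons 12 m2_3 (.cons 6 m2_4 (.cons 3 m2_5 (.cons 1 m2_6 (.cons 1 m2_7 (.cons 1 m2_8 (.cons 3 m2_9 (.cons 6 m2_10 (.cons 12 m2_11 (.cons 24 m2_12 (.cons 48 m2_13 (.cons 96 m2_14 .nil)))))))))))))))

theorem ok2 : Net.ok 192 net2 = true :=
  by decide +kernel

noncomputable def m3_0 : ℕ := nat_lit 0x4dac24ffe9f48bfca5650000

noncomputable def m3_1 : ℕ := nat_lit 0x7352b63bf4440000000000002ed5f52c0040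

noncomputable def m3_2 : ℕ := nat_lit 0xf95b440000002c1c4c00000092ea88000000238820

noncomputable def m3_3 : ℕ := nat_lit 0x91e000e30000d620005f6000a7d000686000d22000c0c

noncomputable def m3_4 : ℕ := nat_lit 0x3202802d02203003200802c00202203c02401200f01700a

noncomputable def m3_5 : ℕ := nat_lit 0x820c00c71031420041420c70441400871450000841c3186

noncomputable def m3_6 : ℕ := nat_lit 0x40000048000048001200001000048248040001200040008

noncomputable def m3_7 : ℕ := nat_lit 0x90480090080490002480012082492492490482410492010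

noncomputable def m3_8 : ℕ := nat_lit 0x241208249200009049040008008208241200201041008049

noncomputable def m3_9 : ℕ := nat_lit 0x2082004100102004080000100080000084080006100086

noncomputable def m3_10 : ℕ := nat_lit 0x1200801202201803200802c02402203c02401a014028008

noncomputable def m3_11 : ℕ := nat_lit 0x3a8000e30000d620005d2000a7c000686000618000c0c

noncomputable def m3_12 : ℕ := nat_lit 0xf95b400000002c1c4800000092ea88000000238820

noncomputable def m3_13 : ℕ := nat_lit 0x73d29233b4000000000000002ed5f52c0040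

noncomputable def m3_14 : ℕ := nat_lit 0x4dac24ffe9f48bfca5650000

noncomputable def net3 : Net := (.cons 96 m3_0 (.cons 48 m3_1 (.cons 24 m3_2 (.cons 12 m3_3 (.cons 6 m3_4 (.cons 3 m3_5 (.cons 1 m3_6 (.cons 1 m3_7 (.cons 1 m3_8 (.cons 3 m3_9 (.cons 6 m3_10 (.cons 12 m3_11 (.cons 24 m3_12 (.cons 48 m3_13 (.cons 96 m3_14 .nil)))))))))))))))

theorem ok3 : Net.ok 192 net3 = true :=
  by decide +kernel

noncomputable def nets : List Net := [net0, net1, net2, net3]

noncomputable def act : Act := netAct nets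
noncomputable def π : ℕ → Equiv.Perm ℕ := netPerm nets

theorem spec : act.Spec 192 π :=
  netAct_spec (AllP.forall (p := fun t => Net.ok 192 t = true) ⟨ok0, ok1, ok2, ok3, trivial⟩)

theorem out : ∀ k, 4 ≤ k → π k = 1 :=
  netPerm_out nets

theorem sat_inv_0 : invC Cfsg.Agent.Spor.HeC.A3.act Cfsg.Agent.Spor.HeC.P3.I 192 8 Cfsg.Agent.Spor.HeC.P3.inv.length [0, 1, 2, 3, 4, 5, 6, 7] = true :=
  by decide +kernel

theorem sat_inv : ∀ k, Cfsg.Agent.Spor.HeC.A3.π (Cfsg.Agent.Spor.HeC.P3.I k) * Cfsg.Agent.Spor.HeC.A3.π k = 1 :=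
  inv_of_checks Cfsg.Agent.Spor.HeC.A3.spec (K := 8) (by decide) Cfsg.Agent.Spor.HeC.A3.out [[0, 1, 2, 3, 4, 5, 6, 7]] (by decide) ⟨sat_inv_0, trivial⟩

theorem sat_rel_0_0 : relsC Cfsg.Agent.Spor.HeC.A3.act Cfsg.Agent.Spor.HeC.P3.I 192 8 [[0, 1, 0, 1, 0, 1], [0, 2, 0, 2, 0, 2], [0, 3, 0, 3, 0, 3], [1, 2, 1, 2], [1, 3, 1, 3], [2, 3, 2, 3, 2, 3, 2, 3], [1, 3, 2, 3, 2]] [0, 1, 2, 3, 4, 5, 6, 7] = true :=
  by decide +kernel

theorem sat_rel_0 : ∀ r ∈ ([[0, 1, 0, 1, 0, 1], [0, 2, 0, 2, 0, 2], [0, 3, 0, 3, 0, 3], [1, 2, 1, 2], [1, 3, 1, 3], [2, 3, 2, 3, 2, 3, 2, 3], [1, 3, 2, 3, 2]] : List (List ℕ)), ev Cfsg.Agent.Spor.HeC.A3.π r = 1 :=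
  rels_of_checks Cfsg.Agent.Spor.HeC.A3.spec (K := 8) (by decide) sat_inv _ [[0, 1, 2, 3, 4, 5, 6, 7]] (by decide) ⟨sat_rel_0_0, trivial⟩

theorem sat_rel : ∀ r ∈ ([[0, 1, 0, 1, 0, 1], [0, 2, 0, 2, 0, 2], [0, 3, 0, 3, 0, 3], [1, 2, 1, 2], [1, 3, 1, 3], [2, 3, 2, 3, 2, 3, 2, 3], [1, 3, 2, 3, 2]] : List (List ℕ)), ev Cfsg.Agent.Spor.HeC.A3.π r = 1 :=
  rels_join [[[0, 1, 0, 1, 0, 1], [0, 2, 0, 2, 0, 2], [0, 3, 0, 3, 0, 3], [1, 2, 1, 2], [1, 3, 1, 3], [2, 3, 2, 3, 2, 3, 2, 3], [1, 3, 2, 3, 2]]] ⟨sat_rel_0, trivial⟩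

theorem sat : Sat Cfsg.Agent.Spor.HeC.P3 Cfsg.Agent.Spor.HeC.A3.π :=
  ⟨Cfsg.Agent.Spor.HeC.A3.out, sat_inv, sat_rel⟩

noncomputable def done_tr0 : ℕ := nat_lit 0x491186ffa66f3619a2975b43631da374dd375eb4a

noncomputable def done_tr1 : ℕ := nat_lit 0xd6d5b9700c8b05a5db6259995b44f361916461426c

noncomputable def done_tr2 : ℕ := nat_lit 0x292a46800110081a24948242808a048822088a1490

noncomputable def done_t0_0 : ℕ := nat_lit 0xc8100cc0008104b32836dbd2dbcef7e9b36ceb56fd

noncomputable def done_t0_1 : ℕ := nat_lit 0x40200000081048000020800dbcc63c09024000000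

noncomputable def done_t0_2 : ℕ := nat_lit 0xfffffff00d1a090cd7c00009000000000000000000

noncomputable def done_t1_0 : ℕ := nat_lit 0x2cba5aafea54a26aaaadb6b6243318176f93d42803

noncomputable def done_t1_1 : ℕ := nat_lit 0xd190ee00102093bbeb4d3d2928ad6a92348ebd7d8

noncomputable def done_t1_2 : ℕ := nat_lit 0x20a2500f1830500000000000000000000000000000

noncomputable def done_t2_0 : ℕ := nat_lit 0x1b66679397599cde65de8e4fcdee2dd8fa3e90a1b7

noncomputable def done_t2_1 : ℕ := nat_lit 0xea0c8794000c061e65d6aa6b6057044eb6850e1c00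

noncomputable def done_t2_2 : ℕ := nat_lit 0xf16ae00ff5a0e00000010000000000000000000000

noncomputable def done_t3_0 : ℕ := nat_lit 0x1255997c6cae67a5db6379b97b55f36795e544896f

noncomputable def done_t3_1 : ℕ := nat_lit 0xc6942971060000e5db6a599d0d20b931d932316200

noncomputable def done_t3_2 : ℕ := nat_lit 0xd4c1b00fd049b00000000400000000000000000000

noncomputable def doneC : TC := ⟨Cfsg.Agent.Spor.HeC.P3, [], 168, 192, 8, 3, [done_tr0, done_tr1, done_tr2],
  [[done_t0_0, done_t0_1, done_t0_2],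
   [done_t1_0, done_t1_1, done_t1_2],
   [done_t2_0, done_t2_1, done_t2_2],
   [done_t3_0, done_t3_1, done_t3_2]]⟩

theorem done_s : doneC.structC Cfsg.Agent.Spor.HeC.A3.act = true :=
  by decide +kernel

theorem done_c0_0 : doneC.coverC Cfsg.Agent.Spor.HeC.A3.act 0 true [(2, 0), (0, 0), (3, 0), (6, 0)] [] 0 (ones 168) = true :=
  by decide +kernel

theorem done_j0 : doneC.JustS Cfsg.Agent.Spor.HeC.A3.π 0 (ones 168) :=
  TC.cover_step Cfsg.Agent.Spor.HeC.A3.spec done_s (TC.justS_zero 0) done_c0_0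

theorem done_c1_0 : doneC.coverC Cfsg.Agent.Spor.HeC.A3.act 1 true [(5, 0), (9, 0), (12, 0), (18, 0), (19, 4), (0, 1)] [] 0 (ones 168) = true :=
  by decide +kernel

theorem done_j1 : doneC.JustS Cfsg.Agent.Spor.HeC.A3.π 1 (ones 168) :=
  TC.cover_step Cfsg.Agent.Spor.HeC.A3.spec done_s (TC.justS_zero 1) done_c1_0

theorem done_c2_0 : doneC.coverC Cfsg.Agent.Spor.HeC.A3.act 2 true [(8, 0), (9, 1), (18, 2), (18, 4), (19, 0), (3, 1)] [(false, 19, 2, 0), (false, 19, 2, 1), (false, 19, 2, 8)] 0 (ones 168) = true :=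
  by decide +kernel

theorem done_j2 : doneC.JustS Cfsg.Agent.Spor.HeC.A3.π 2 (ones 168) :=
  TC.cover_step Cfsg.Agent.Spor.HeC.A3.spec done_s (TC.justS_zero 2) done_c2_0

theorem done_c3_0 : doneC.coverC Cfsg.Agent.Spor.HeC.A3.act 3 true [(11, 0), (12, 1), (18, 1), (18, 3), (19, 3), (6, 1)] [(false, 19, 1, 2), (false, 19, 1, 5), (false, 19, 1, 15)] 0 (ones 168) = true :=
  by decide +kernel

theorem done_j3 : doneC.JustS Cfsg.Agent.Spor.HeC.A3.π 3 (ones 168) :=
  TC.cover_step Cfsg.Agent.Spor.HeC.A3.spec done_s (TC.justS_zero 3) done_c3_0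

theorem done : doneC.Done Cfsg.Agent.Spor.HeC.A3.π :=
  TC.done_of Cfsg.Agent.Spor.HeC.A3.spec sat done_s ⟨done_j0, done_j1, done_j2, done_j3, trivial⟩

end A3

theorem b3 : Bound P3 168 :=
  A3.done.bound_bot rfl

def P4 : Pres := ⟨[0, 1, 2, 3, 4, 5],
  [[0, 1, 0, 1],
   [0, 2, 0, 2],
   [0, 3, 0, 3],
   [0, 4, 0, 4],
   [0, 5, 0, 5],
   [1, 2, 1, 2, 1, 2, 1, 2, 1, 2, 1, 2, 1, 2, 1, 2, 1, 2, 1, 2],
   [1, 3, 1, 3],
   [1, 4, 1, 4],
   [1, 5, 1, 5],
   [2, 3, 2, 3, 2, 3],
   [2, 4, 2, 4, 2, 4],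
   [2, 5, 2, 5, 2, 5],
   [3, 4, 3, 4],
   [3, 5, 3, 5],
   [4, 5, 4, 5, 4, 5, 4, 5],
   [3, 5, 4, 5, 4],
   [0, 2, 1, 2, 1, 2, 1, 2, 1, 2, 1],
   [1, 2, 4, 5, 1, 2, 4, 5, 1, 2, 4, 5, 1, 2, 4, 5],
   [1, 2, 1, 2, 3, 2, 1, 2, 3, 1, 2, 1, 2, 3, 2]]⟩

namespace A4
noncomputable def m0_0 : ℕ := nat_lit 0xd84edeffffbdffd84ed9e67e76a49e67e76a43c27991e13cca3018c040000000

noncomputable def m0_1 : ℕ := nat_lit 0xfe99cb827e7ddfff39c203011f6062200000000000000000000000000000000037fef401fffb81fffeb8a222f4b48000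

noncomputable def m0_2 : ℕ := nat_lit 0xaa756cc44ee056640000000000000000c806e03fbe5017c800000000000000001873204cd8d9a8400000000000000000906003e0fffbd100

noncomputable def m0_3 : ℕ := nat_lit 0x95e5f24a00000000c76483f80000000025a452500000000017f5dcfc00000000f15f8ae80000000068b872b4000000006f0f86b000000000f0383b80

noncomputable def m0_4 : ℕ := nat_lit 0xb56600003a9500007b180000ba0000003a0a000077700000abc20000c4360000b93a00007efc000058950000393b00006c68000055a200009a1f0000408c

noncomputable def m0_5 : ℕ := nat_lit 0x7f00be004a003f003900ff0064004800620078005900ec004e00dc00ce00070038005e0064009a007b00b500ec00bc00bf007a006200ed006200f000200084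

noncomputable def m0_6 : ℕ := nat_lit 0xe0d0d060e05050c030b000a09030a030d0208000a0c07000e0a080609000000040d0e08000e060c010c000d0b0d0f0e00000d0009010a0805090106000d070c

noncomputable def m0_7 : ℕ := nat_lit 0x2203131002000022332210100021100020200200232001032212201200332302320232311012000001032222221221200001302000010303011031100021200

noncomputable def m0_8 : ℕ := nat_lit 0x1101040041141111001404000110044114404014404000100104000000000004000404500404111440000404015040504040044000000500110104045445511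

noncomputable def m0_9 : ℕ := nat_lit 0x200000002002202002002000200000200200002002000000202000000000002000202000002000000000202020020000000002000000000020002000020000

noncomputable def m0_10 : ℕ := nat_lit 0xc08020000060e0a000008000002000800040c0000040808040800000004000608000c06000000040c0006040c00000800000000080e020a08000c0800

noncomputable def m0_11 : ℕ := nat_lit 0x8000000034004000ec0000002000480062002000580064008c0042000c000000b8004000640012004800a4008800bc00000052000000e800f0006200000084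

noncomputable def m0_12 : ℕ := nat_lit 0x976400008a4000007b180000ba0000003a0a00007770000028600000ce340000113a00007eec000009800000dbd000004c48000055a2000065a00000408c

noncomputable def m0_13 : ℕ := nat_lit 0x9df4c06a00000000c76481f80000000025a452500000000017f5dcfc00000000f9930ae80000000068b872b4000000004f0f869000000000f0383b80

noncomputable def m0_14 : ℕ := nat_lit 0xaa756cc44ee056640000000000000000c806e003be5017c800000000000000001873204cd8d9a840000000000000000090600320fffbd100

noncomputable def m0_15 : ℕ := nat_lit 0xfe99cb827e79dfff39c223011f6060200000000000000000000000000000000037fef401fffb81fffeb8a222f4b48000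

noncomputable def m0_16 : ℕ := nat_lit 0xd84edeffffbdffd84ed9e67e76a49e67e76a43c27991e13cca3018c040000000

noncomputable def net0 : Net := (.cons 256 m0_0 (.cons 128 m0_1 (.cons 64 m0_2 (.cons 32 m0_3 (.cons 16 m0_4 (.cons 8 m0_5 (.cons 4 m0_6 (.cons 2 m0_7 (.cons 1 m0_8 (.cons 2 m0_9 (.cons 4 m0_10 (.cons 8 m0_11 (.cons 16 m0_12 (.cons 32 m0_13 (.cons 64 m0_14 (.cons 128 m0_15 (.cons 256 m0_16 .nil)))))))))))))))))

theorem ok0 : Net.ok 512 net0 = true :=
  by decide +kernel

noncomputable def m1_0 : ℕ := nat_lit 0xa01cb987beb5ca86b8b99cbbf0025349800202239a9c41814e10806200504000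

noncomputable def m1_1 : ℕ := nat_lit 0xf6c1cdce7bfb97437deeac26105ac2c40000000000000000000000000000000071052be7be4edf5d07cb13125d001800

noncomputable def m1_2 : ℕ := nat_lit 0xfa8ceb89b4efe2ea00000000000000006f2c70ab4332c9fa0000000000000000064b173fff76451600000000000000007ed623668395edf0

noncomputable def m1_3 : ℕ := nat_lit 0x3059534d00000000d299b53100000000c51632aa000000008c88665600000000d8e1d4f200000000f9898d5c0000000084ed1c100000000064c23baa

noncomputable def m1_4 : ℕ := nat_lit 0x391d0000a2f40000f92e00006ee70000c39c0000e1d9000008d20000321c00005e43000012b40000dfb10000b9bd000088140000e76900000bd00000ce6a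

noncomputable def m1_5 : ℕ := nat_lit 0xd00d8000b00ff008b00bd00bc006f00a4007200b7001d00a700ca0098003f00d200de003500cf0095008d008500f0002d00fa0095005400a2007400180058

noncomputable def m1_6 : ℕ := nat_lit 0x604020f0705090d040e0f030d03080d0a000204020a0c0c0b06070f0605030f0c0c030009010c0105060d030503070b080f0a000c0a02070400080702050803

noncomputable def m1_7 : ℕ := nat_lit 0x12023030013221110330003203012002222200020232002002022020230202200223221330232303210032002213300202312122233222021022023300131211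

noncomputable def m1_8 : ℕ := nat_lit 0x15414410414041014444010410044414401010010400401414414144101101144410144001001000404111401004101150510100144414110411111450410014

noncomputable def m1_9 : ℕ := nat_lit 0x20200002020022022000200020200202020020000000022002002202002200220020000002000002202002000200000000000200222000022200000020022

noncomputable def m1_10 : ℕ := nat_lit 0x8040e060608000a0200020200040c02040208000c00000208060400060a000c04000a0c0e0408040c0c04000200000808040e0002080000040002080208080c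

noncomputable def m1_11 : ℕ := nat_lit 0xc4000600f000e00082005c00b6002000ac0062001400c000aa00ee009a0000005e00d40070008a00940088006e0074002c00a0000c00900000007400180058

noncomputable def m1_12 : ℕ := nat_lit 0xe95c00003a780000392a0000808c0000a0980000c2d80000b5340000b21c0000a9ca000039f400009d2400007ca800008d500000059400008a800000ca62

noncomputable def m1_13 : ℕ := nat_lit 0x86ddd34c000000002322408c000000006b204800000000008c88665600000000b981efc600000000b4cc407800000000a0ae59600000000064c23b8a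

noncomputable def m1_14 : ℕ := nat_lit 0x888826c8ac62e0e80000000000000000ef2c40ab432041e00000000000000000470f3fdbde26548200000000000000007fd623468295edf0

noncomputable def m1_15 : ℕ := nat_lit 0x76c1c5ce73fb1543fdeaae261058c2c40000000000000000000000000000000070042bd7be4edefd274b93025d801000

noncomputable def m1_16 : ℕ := nat_lit 0xa01cb987beb5ca86b8b99cbbf0025349800202239a9c41814e10806200504000

noncomputable def net1 : Net := (.cons 256 m1_0 (.cons 128 m1_1 (.cons 64 m1_2 (.cons 32 m1_3 (.cons 16 m1_4 (.cons 8 m1_5 (.cons 4 m1_6 (.cons 2 m1_7 (.cons 1 m1_8 (.cons 2 m1_9 (.cons 4 m1_10 (.cons 8 m1_11 (.cons 16 m1_12 (.cons 32 m1_13 (.cons 64 m1_14 (.cons 128 m1_15 (.cons 256 m1_16 .nil)))))))))))))))))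

theorem ok1 : Net.ok 512 net1 = true :=
  by decide +kernel

noncomputable def m2_0 : ℕ := nat_lit 0x5d34b26133fd80a246452ba5a33b3c1aa168020c212103426082441088130080

noncomputable def m2_1 : ℕ := nat_lit 0x5b320614827194bea1482e26b4542110000000000000000000000000000000002036b2534f16fee81040caa684bd8028

noncomputable def m2_2 : ℕ := nat_lit 0x6d9d9501e8a1cc00000000000000000ddab07c0598252010000000000000000b2bb5649526a2c28000000000000000022557d8cab942280

noncomputable def m2_3 : ℕ := nat_lit 0x17dc6dd400000000817128740000000040283d1a0000000055b5ed040000000022854b110000000064a1b0520000000017c8c9780000000000d90082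

noncomputable def m2_4 : ℕ := nat_lit 0x569a0000f5450000b7840000120c000024240000043a00003ad80000ad210000d93500004248000051f2000004560000ee180000109f0000c8680000ac54

noncomputable def m2_5 : ℕ := nat_lit 0x3200230075009700b800a000dc007400b700b0009600cc004400ba00190082007b00be008d0079003300c800e400c4005d009000460037003d009d008300c4

noncomputable def m2_6 : ℕ := nat_lit 0x5000905000b010c040500030d060b0a0e070a0e020506030f0d0a0c0f0f070f020d00040b06050e0607060b030a000701070a0e0a0f06080807050e050e080e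

noncomputable def m2_7 : ℕ := nat_lit 0x20302132331001323222032010022322011213320021303213000301030011003001021331112110023300311130013021100332022331030002130220302002

noncomputable def m2_8 : ℕ := nat_lit 0x44114544140405510400104400444001004405044040044401444550011100111011004401041144110101014111044544101054411441015004404100004440

noncomputable def m2_9 : ℕ := nat_lit 0x20202020000000000200000200202002000200000020022002200000022000000000000202020200200202022202022020000002222222020002000000000020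

noncomputable def m2_10 : ℕ := nat_lit 0x4040c0a080400000400000c04080a0a04020a040800060800080a0c0c00000002040004080408000a0000000800060000060a080804040008000002000c0004

noncomputable def m2_11 : ℕ := nat_lit 0x3200d000280088001800a000dc00740056003200be000e008c00b8009800820028008a007a00e800d8000000e0005800480090002000320054005400c000a8

noncomputable def m2_12 : ℕ := nat_lit 0x423e00006b240000b784000003180000842600002c3000007b580000ed0000004b64000009f000001ca0000090900000261800004814000082480000ea14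

noncomputable def m2_13 : ℕ := nat_lit 0x11306dd400000000817128740000000078fb9bf0000000001405a5040000000082930e0000000000043a1b0c0000000017cacd600000000077b20602

noncomputable def m2_14 : ℕ := nat_lit 0x6d9d9501e8a1cc000000000000000001c9307401d1213000000000000000000b2294e08f20c68ac000000000000000022557cacab042280

noncomputable def m2_15 : ℕ := nat_lit 0x5b320614827194bea1482e26b4542110000000000000000000000000000000002036b2536f06fee85040cba684b98028

noncomputable def m2_16 : ℕ := nat_lit 0x5d34b26133fd80a2464529a5a33b3c1aa1680a04212103426082445088110080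

noncomputable def net2 : Net := (.cons 256 m2_0 (.cons 128 m2_1 (.cons 64 m2_2 (.cons 32 m2_3 (.cons 16 m2_4 (.cons 8 m2_5 (.cons 4 m2_6 (.cons 2 m2_7 (.cons 1 m2_8 (.cons 2 m2_9 (.cons 4 m2_10 (.cons 8 m2_11 (.cons 16 m2_12 (.cons 32 m2_13 (.cons 64 m2_14 (.cons 128 m2_15 (.cons 256 m2_16 .nil)))))))))))))))))

theorem ok2 : Net.ok 512 net2 = true :=
  by decide +kernel

noncomputable def m3_0 : ℕ := nat_lit 0x505b4fae4d7a14b4b63785d5b043c2048aa1a78d0c0e6055c7029c120e403000

noncomputable def m3_1 : ℕ := nat_lit 0xf04392b9206fefb94924df64fd573168000000000000000000000000000000001cd05b005c5cd6b7d503a05947426000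

noncomputable def m3_2 : ℕ := nat_lit 0x6026b5a46843ec0e00000000000000003a67d2590b114a180000000000000000f66ee4fd342328b000000000000000008196f8bd01454920

noncomputable def m3_3 : ℕ := nat_lit 0xe0991d460000000046c9d96800000000003a72c200000000f67ec2a200000000ec24305c000000005994550000000000a153dcaa000000000b841520

noncomputable def m3_4 : ℕ := nat_lit 0xe27000005d3e00004ec00000a939000062860000706d0000a30a0000cbe70000bdfc0000bbe60000fc700000ff510000b4d6000022b400004c8300007408

noncomputable def m3_5 : ℕ := nat_lit 0x920006003900ee00a800dc005900c70001007800c7009f00740008009b00a3003c0050005400060091007100f200560070003c00000015009100be003400b8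

noncomputable def m3_6 : ℕ := nat_lit 0xd040c0602080f0e020d070b050b03070b080a0a01000c0b0c0e0c0906060d090401050c02040f0c080c0201000a0e000008060001030b0807040109060400

noncomputable def m3_7 : ℕ := nat_lit 0x30203012201000110230021120020002002033010301331332300320121032133222102001022203121000000010133013233023002201120132012113302200

noncomputable def m3_8 : ℕ := nat_lit 0x404511110505141151004144104104015005404540114541154044040440505104414010111011000410104014054055500440110444140140400014511050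

noncomputable def m3_9 : ℕ := nat_lit 0x202002200000220200002220002000020000000000200002200002020220000002220000022020000000002020002000000020000222200220200002002000

noncomputable def m3_10 : ℕ := nat_lit 0x4040c02000a000a02080808000e04000808080a08000006000e000006080200040600040200060c08000200000c0400000806000000040a06060006060000

noncomputable def m3_11 : ℕ := nat_lit 0x9000320018006a00a000dc00780028003a007800440000000c000800da005e003000bc0010000c009000700010006000800014000000ea00920052003400b8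

noncomputable def m3_12 : ℕ := nat_lit 0xe23000005c1400004ec000009a48000062060000bc0c0000a90a000088b6000095640000bbe600009c700000c7100000b4d6000022b40000780400007408

noncomputable def m3_13 : ℕ := nat_lit 0xe0991d460000000046c9d96000000000087a62c000000000bc78c8c200000000e644304c0000000059945500000000008153dca2000000000b841520

noncomputable def m3_14 : ℕ := nat_lit 0x6026b1a46843ac0e00000000000000003a7792590a914e000000000000000000f66ee4fd342328b000000000000000000196f8bd01454920

noncomputable def m3_15 : ℕ := nat_lit 0xf04392b9206fefb94924df64fd573168000000000000000000000000000000001cd05b005c5cd7b79503a01947426000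

noncomputable def m3_16 : ℕ := nat_lit 0x505b4fae4d7a14b4b63785d5b043c2048aa1a78d0c0e6055c7029c120e403000

noncomputable def net3 : Net := (.cons 256 m3_0 (.cons 128 m3_1 (.cons 64 m3_2 (.cons 32 m3_3 (.cons 16 m3_4 (.cons 8 m3_5 (.cons 4 m3_6 (.cons 2 m3_7 (.cons 1 m3_8 (.cons 2 m3_9 (.cons 4 m3_10 (.cons 8 m3_11 (.cons 16 m3_12 (.cons 32 m3_13 (.cons 64 m3_14 (.cons 128 m3_15 (.cons 256 m3_16 .nil)))))))))))))))))

theorem ok3 : Net.ok 512 net3 = true :=
  by decide +kernel

noncomputable def m4_0 : ℕ := nat_lit 0x5f5657d9a1564b86172130dbc7447a811d2a01020b00485d290a407dc018c000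

noncomputable def m4_1 : ℕ := nat_lit 0x4feda8dfe900298ddcbb22875af9ba4000000000000000000000000000000000c39ab0d5b84b158b055c2252c1588400

noncomputable def m4_2 : ℕ := nat_lit 0xb62f2cd90c1f108100000000000000007ee98d54f21dd10800000000000000001126de1b7ab322080000000000000000a12c6421be546990

noncomputable def m4_3 : ℕ := nat_lit 0x4ffb0c81000000007010b64100000000c2f15a4c000000003a5aa28100000000987990aa00000000260739100000000025a8b82200000000543943c0

noncomputable def m4_4 : ℕ := nat_lit 0x193e0000d7cc000004e20000314600007be900000e4f0000cd4400005e580000178000005b7400005e60000066b9000038a400000488000099680000c932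

noncomputable def m4_5 : ℕ := nat_lit 0x9a00c200aa0002008f004a00c8000c00b3001d00fe00fe0010001000f7000a00920049003a00e400a4008a00da0075008c0000002f00dc0034002a00660064

noncomputable def m4_6 : ℕ := nat_lit 0x10803090401080c020f070a000a0d040302040e090302090400020c0f0f05000c070a0a0e0c00000808080a00000c0608020400000a05060404020e08080402

noncomputable def m4_7 : ℕ := nat_lit 0x13101021122022301210000230110000201002101111303222120032133220203002002203130222210020013102321221000121103020000123302210330132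

noncomputable def m4_8 : ℕ := nat_lit 0x50000515114451441141401455004015555454054151054504005004500540440411001005051441105045105041510110454000451540014040001014451004

noncomputable def m4_9 : ℕ := nat_lit 0x200002022000200000000000000002002002002002000002000020200020002000000222200020000002020220000000002020002000002000200002

noncomputable def m4_10 : ℕ := nat_lit 0x4040e060200040a0e08040a000008000002040e0404080004000a0c000004000c08000a0c0e0000080808020800040c080204000a0004020404000808080402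

noncomputable def m4_11 : ℕ := nat_lit 0x4a00a000c8001c00f200a400c800420060001400b00062001000100008000800920008005000640024008a00d000b4008c000000d000540080008800060074

noncomputable def m4_12 : ℕ := nat_lit 0x44ba0000a046000026700000314600007ac80000f1b00000c84400005e580000178000005b6400005e4000006e20000018a4000004880000996800009102

noncomputable def m4_13 : ℕ := nat_lit 0xbf5fb9c0000000007010b64000000000c2f15a4c000000003a4aa20000000000987990a800000000260739100000000025a8b82000000000543143c0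

noncomputable def m4_14 : ℕ := nat_lit 0xb62f2ed80c1d108000000000000000007ee98d54f21dd10800000000000000001126d60b6ab322080000000000000000a12c6421be546990

noncomputable def m4_15 : ℕ := nat_lit 0xfeda8dfe900298d5cbb228752f9ba4000000000000000000000000000000000c39ab0d5b84b158b055c2252c1588400

noncomputable def m4_16 : ℕ := nat_lit 0x5f5657d9a1564b86172130dbc7447a811d2a01020b00485d290a407dc018c000

noncomputable def net4 : Net := (.cons 256 m4_0 (.cons 128 m4_1 (.cons 64 m4_2 (.cons 32 m4_3 (.cons 16 m4_4 (.cons 8 m4_5 (.cons 4 m4_6 (.cons 2 m4_7 (.cons 1 m4_8 (.cons 2 m4_9 (.cons 4 m4_10 (.cons 8 m4_11 (.cons 16 m4_12 (.cons 32 m4_13 (.cons 64 m4_14 (.cons 128 m4_15 (.cons 256 m4_16 .nil)))))))))))))))))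

theorem ok4 : Net.ok 512 net4 = true :=
  by decide +kernel

noncomputable def m5_0 : ℕ := nat_lit 0xdd33ca6fb9fff9ff67535dff840541cf04116800d00504990e04091000000000

noncomputable def m5_1 : ℕ := nat_lit 0x9eeae9833d2a84334ef551c71008f670000000000000000000000000000000000410c08698cdce98988ca1596500c000

noncomputable def m5_2 : ℕ := nat_lit 0x6d7c5d2e8e0fa03e000000000000000009b1a50260ad19a8000000000000000004e0618c2e46a4a0000000000000000082d4059744248002

noncomputable def m5_3 : ℕ := nat_lit 0x4c24a8a7000000006c719382000000005c622f0e00000000d9e1d9f4000000002ea5d4c40000000031e8fd0200000000629001b400000000836b04c0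

noncomputable def m5_4 : ℕ := nat_lit 0xe6c800000df100005ce200005085000087f30000b5aa0000dcf300003a61000003c40000d4160000326300007f2200006af10000eb180000cda20000da58

noncomputable def m5_5 : ℕ := nat_lit 0x7a009200b9009e001a005c005000fa007400ad00e1005a00cf00f0004a00800009009200c000af004a0064001800d8002a007800ee003a00460029001000fa

noncomputable def m5_6 : ℕ := nat_lit 0x3080a00020d0d040701030c0d000f090006000d00060c00030502040f0e0c0b0400040802000f03050d08070100060808080b09020c05080d0e000c02060100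

noncomputable def m5_7 : ℕ := nat_lit 0x30310112113330320322131010010333220101132222030332233103020320302030301002320222123202210333301200230033330300203220000202200000

noncomputable def m5_8 : ℕ := nat_lit 0x15400101544145111040140540400114411040141010101510404500044440114000000014044114540414404140040411055155054000455141540454014440

noncomputable def m5_9 : ℕ := nat_lit 0x202002220020020020000000020000020220000202000200000020220022000000002002222000202202220000200000000000000200220000202000000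

noncomputable def m5_10 : ℕ := nat_lit 0x402080c080600040c00080a060a040c040000040000060604000e00000400040002000c000a0800020c00060000080800020c00080406000402020000

noncomputable def m5_11 : ℕ := nat_lit 0x88009a003800aa001a0054009800580020003000c0004a009600f2000a00c00000009000c4001c00480060006800d8002a0078006c00320006002800100018

noncomputable def m5_12 : ℕ := nat_lit 0xc84200008fe000005ce2000055500000f7800000011000001a0800005c00000003c00000f0180000757400007e2200006a700000eb180000cda20000c258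

noncomputable def m5_13 : ℕ := nat_lit 0x675cbfc0000000006c519380000000005c622f0e00000000e8e1c9b0000000002ea5d4c4000000001060cc0200000000629001a400000000836b04c0

noncomputable def m5_14 : ℕ := nat_lit 0x2c7c1fac8e1d8074000000000000000029b1a542688f10a8000000000000000004e0618c2e06a4a0000000000000000082d4059744248002

noncomputable def m5_15 : ℕ := nat_lit 0x9eeae9833d2a84334ef551c71008f670000000000000000000000000000000000410c08698cdce98988ca1596500c000

noncomputable def m5_16 : ℕ := nat_lit 0xdd33ca6fb9fff9ff67535dff840541cf04116800d00504990e04091000000000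

noncomputable def net5 : Net := (.cons 256 m5_0 (.cons 128 m5_1 (.cons 64 m5_2 (.cons 32 m5_3 (.cons 16 m5_4 (.cons 8 m5_5 (.cons 4 m5_6 (.cons 2 m5_7 (.cons 1 m5_8 (.cons 2 m5_9 (.cons 4 m5_10 (.cons 8 m5_11 (.cons 16 m5_12 (.cons 32 m5_13 (.cons 64 m5_14 (.cons 128 m5_15 (.cons 256 m5_16 .nil)))))))))))))))))

theorem ok5 : Net.ok 512 net5 = true :=
  by decide +kernel

noncomputable def nets : List Net := [net0, net1, net2, net3, net4, net5]

noncomputable def act : Act := netAct nets
noncomputable def π : ℕ → Equiv.Perm ℕ := netPerm nets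

theorem spec : act.Spec 512 π :=
  netAct_spec (AllP.forall (p := fun t => Net.ok 512 t = true) ⟨ok0, ok1, ok2, ok3, ok4, ok5, trivial⟩)

theorem out : ∀ k, 6 ≤ k → π k = 1 :=
  netPerm_out nets

theorem sat_inv_0 : invC Cfsg.Agent.Spor.HeC.A4.act Cfsg.Agent.Spor.HeC.P4.I 512 9 Cfsg.Agent.Spor.HeC.P4.inv.length [0, 1, 2, 3, 4, 5, 6, 7, 8] = true :=
  by decide +kernel

theorem sat_inv : ∀ k, Cfsg.Agent.Spor.HeC.A4.π (Cfsg.Agent.Spor.HeC.P4.I k) * Cfsg.Agent.Spor.HeC.A4.π k = 1 :=
  inv_of_checks Cfsg.Agent.Spor.HeC.A4.spec (K := 9) (by decide) Cfsg.Agent.Spor.HeC.A4.out [[0, 1, 2, 3, 4, 5, 6, 7, 8]] (by decide) ⟨sat_inv_0, trivial⟩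

theorem sat_rel_0_0 : relsC Cfsg.Agent.Spor.HeC.A4.act Cfsg.Agent.Spor.HeC.P4.I 512 9 [[0, 1, 0, 1], [0, 2, 0, 2], [0, 3, 0, 3], [0, 4, 0, 4], [0, 5, 0, 5], [1, 2, 1, 2, 1, 2, 1, 2, 1, 2, 1, 2, 1, 2, 1, 2, 1, 2, 1, 2], [1, 3, 1, 3], [1, 4, 1, 4], [1, 5, 1, 5], [2, 3, 2, 3, 2, 3], [2, 4, 2, 4, 2, 4], [2, 5, 2, 5, 2, 5], [3, 4, 3, 4], [3, 5, 3, 5], [4, 5, 4, 5, 4, 5, 4, 5], [3, 5, 4, 5, 4], [0, 2, 1, 2, 1, 2, 1, 2, 1, 2, 1], [1, 2, 4, 5, 1, 2, 4, 5, 1, 2, 4, 5, 1, 2, 4, 5], [1, 2, 1, 2, 3, 2, 1, 2, 3, 1, 2, 1, 2, 3, 2]] [0, 1, 2, 3, 4, 5, 6, 7, 8] = true :=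
  by decide +kernel

theorem sat_rel_0 : ∀ r ∈ ([[0, 1, 0, 1], [0, 2, 0, 2], [0, 3, 0, 3], [0, 4, 0, 4], [0, 5, 0, 5], [1, 2, 1, 2, 1, 2, 1, 2, 1, 2, 1, 2, 1, 2, 1, 2, 1, 2, 1, 2], [1, 3, 1, 3], [1, 4, 1, 4], [1, 5, 1, 5], [2, 3, 2, 3, 2, 3], [2, 4, 2, 4, 2, 4], [2, 5, 2, 5, 2, 5], [3, 4, 3, 4], [3, 5, 3, 5], [4, 5, 4, 5, 4, 5, 4, 5], [3, 5, 4, 5, 4], [0, 2, 1, 2, 1, 2, 1, 2, 1, 2, 1], [1, 2, 4, 5, 1, 2, 4, 5, 1, 2, 4, 5, 1, 2, 4, 5], [1, 2, 1, 2, 3, 2, 1, 2, 3, 1, 2, 1, 2, 3, 2]] : List (List ℕ)), ev Cfsg.Agent.Spor.HeC.A4.π r = 1 :=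
  rels_of_checks Cfsg.Agent.Spor.HeC.A4.spec (K := 9) (by decide) sat_inv _ [[0, 1, 2, 3, 4, 5, 6, 7, 8]] (by decide) ⟨sat_rel_0_0, trivial⟩

theorem sat_rel : ∀ r ∈ ([[0, 1, 0, 1], [0, 2, 0, 2], [0, 3, 0, 3], [0, 4, 0, 4], [0, 5, 0, 5], [1, 2, 1, 2, 1, 2, 1, 2, 1, 2, 1, 2, 1, 2, 1, 2, 1, 2, 1, 2], [1, 3, 1, 3], [1, 4, 1, 4], [1, 5, 1, 5], [2, 3, 2, 3, 2, 3], [2, 4, 2, 4, 2, 4], [2, 5, 2, 5, 2, 5], [3, 4, 3, 4], [3, 5, 3, 5], [4, 5, 4, 5, 4, 5, 4, 5], [3, 5, 4, 5, 4], [0, 2, 1, 2, 1, 2, 1, 2, 1, 2, 1], [1, 2, 4, 5, 1, 2, 4, 5, 1, 2, 4, 5, 1, 2, 4, 5], [1, 2, 1, 2, 3, 2, 1, 2, 3, 1, 2, 1, 2, 3, 2]] : List (List ℕ)), ev Cfsg.Agent.Spor.HeC.A4.π r = 1 :=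
  rels_join [[[0, 1, 0, 1], [0, 2, 0, 2], [0, 3, 0, 3], [0, 4, 0, 4], [0, 5, 0, 5], [1, 2, 1, 2, 1, 2, 1, 2, 1, 2, 1, 2, 1, 2, 1, 2, 1, 2, 1, 2], [1, 3, 1, 3], [1, 4, 1, 4], [1, 5, 1, 5], [2, 3, 2, 3, 2, 3], [2, 4, 2, 4, 2, 4], [2, 5, 2, 5, 2, 5], [3, 4, 3, 4], [3, 5, 3, 5], [4, 5, 4, 5, 4, 5, 4, 5], [3, 5, 4, 5, 4], [0, 2, 1, 2, 1, 2, 1, 2, 1, 2, 1], [1, 2, 4, 5, 1, 2, 4, 5, 1, 2, 4, 5, 1, 2, 4, 5], [1, 2, 1, 2, 3, 2, 1, 2, 3, 1, 2, 1, 2, 3, 2]]] ⟨sat_rel_0, trivial⟩

theorem sat : Sat Cfsg.Agent.Spor.HeC.P4 Cfsg.Agent.Spor.HeC.A4.π :=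
  ⟨Cfsg.Agent.Spor.HeC.A4.out, sat_inv, sat_rel⟩

noncomputable def done_tr0 : ℕ := nat_lit 0x1fddcb5fe7df399734e7654fa29d04819531d9193c808482aeb2345a34983abac8aa5a349831dd50dc8d1dd50dc8d1203758901baff5afd6a5655132

noncomputable def done_tr1 : ℕ := nat_lit 0xf7eef5bdfbe9dfea4efc9ab639f9b12e6adb13d7d9dd292fcb27665f65d37f2c9dcc5f65d37d175579ded175579dea5d79ed2ebcf7decf7b1a5a667c

noncomputable def done_tr2 : ℕ := nat_lit 0x28330ee21c36e23dfb1bff79de46cff3fdececeaa663def175d99ba09a6d85d76677a09a6d8eeaaaa663eeaaaa663daa8eb6d547582b70adffbfbb80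

noncomputable def done_t0_0 : ℕ := nat_lit 0x45fffffffcfb57dfffc700000000000000000e0020002403ffffffffffffffffffbffffffff000000000000000000ffffffffffffc0000003fffc031

noncomputable def done_t0_1 : ℕ := nat_lit 0x88ffffffecfb775fdfd1fffffffffffffff7f9ffdffffdfc000000000000000000420000000000000000000000000fffffffffffffffffffc000003c

noncomputable def done_t0_2 : ℕ := nat_lit 0xff00000091002000002c000000000000000e060000006300000000000000000000000000000000000000000000000fffffffffffffffffffffffffc0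

noncomputable def done_t0_3 : ℕ := nat_lit 0x3cfffffffdfb775fdfe4fffffffffffffff7f7fddffefbffffffffffffffffffffbdfffffffffffffffffffffffff000000000000000000000000000

noncomputable def done_t0_4 : ℕ := nat_lit 0xc3000000020488a0201b0000000000000008080220010400000000000000000000420000000000000000000000000000000000000000000000000000

noncomputable def done_t1_0 : ℕ := nat_lit 0x1f8305f5d036c0a05846000430d2410000109d913880480377e23f0a04003ddf88bf5a0410388500f88c88500588f0003ff00019ffff8ffc3c7c4033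

noncomputable def done_t1_1 : ℕ := nat_lit 0x38ff0fd46df6f31f975d3f7cee0fcff0fdfde9ea86631cf3841b80f09aed8e106642a09aed8eeaaa0660eeaaa0663daa82b6d5415c2bf0afffbfbb80

noncomputable def done_t1_2 : ℕ := nat_lit 0x3ccf0ffd61f008be7ce4000602490000001404000880c20088200000241002200000002000000000a00300000a0000000eb8000758007001c0404000

noncomputable def done_t1_3 : ℕ := nat_lit 0x3ccc0eef71c259bc78e4fc780246c003f1e414100000420279e21b50249009e700350020800110500000110500000000000000000000000000000000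

noncomputable def done_t1_4 : ℕ := nat_lit 0xc0008209000000120003300005000009090220008800000000000000000000420000000000000000000000000000000000000000000000000000

noncomputable def done_t2_0 : ℕ := nat_lit 0x801008601422c2318b0bbcd8dc46731bfbee4ec6e62e3b1965ddcba4d22f85135515a4922f8eeaafa77366aafa773fffceb7ffe7580b702dffbf87cd

noncomputable def done_t2_1 : ℕ := nat_lit 0x8223062180482202812904045240d67080c8e0004004864650882008206c094220400c246c8800a02208800a0220daa8006d5400000000000000382

noncomputable def done_t2_2 : ℕ := nat_lit 0xe83300600816e4410a001160000402810c0e2c200401848021888200514001862246004100088000000088000000000000000000002800a000003800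

noncomputable def done_t2_3 : ℕ := nat_lit 0x283338e21816e671eb12f3e047608afe06022228815063fd54845005596b4552002005596b4000000000000000000000000000000000000000000000

noncomputable def done_t2_4 : ℕ := nat_lit 0xc00006000000000c10000001100005000000808000008800000000000000000000000000000000000000000000000000000000000000000000000000

noncomputable def done_t3_0 : ℕ := nat_lit 0x42b3f4826cb944e842010380296021200e001b14c11808220006425c41c3680099045c45d3611f5549df1155549df2417d413ebea3d40c5000404479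

noncomputable def done_t3_1 : ℕ := nat_lit 0x9007f77631ffa6ef5c773fff3bfd9584fffbd8dffcc52c8767b1240404c02d9e44ca0400c02cca00f443cca00f44393c0ebc80075c2be0afbf3f330e

noncomputable def done_t3_2 : ℕ := nat_lit 0xc384c00e71cb7b0162ec008008000008020202000000a1080822000404d0202000000400c0200a00544000a00544003c00001e0000c0030000000000

noncomputable def done_t3_3 : ℕ := nat_lit 0x3cfcc44e5d4b7ba972e4c0000a4030af00021218800c21ae8822000b34191a2000000b30091000000000000000000000000000000000000000000000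

noncomputable def done_t3_4 : ℕ := nat_lit 0xc30008818200001000090002a00005000009090000008800000012000000000000240000000000000000000000000000000000000000000000000000

noncomputable def done_t4_0 : ℕ := nat_lit 0x56c2d49cd2a942c8426400842c7ba31e021037b4dbc81b1fdb4eafcd47d26b6d3d8dcd47d267365d61fa9345d61fa0d0e90f6e7487c0d60342c2eef9

noncomputable def done_t4_1 : ℕ := nat_lit 0xc1e4f5a8fb6996c8c8741a3231f0593468cb05d3d03760370023009d20d05c0086409d20c05e030f7a766030f7a76e0fd0e001e8701e00781818000e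

noncomputable def done_t4_2 : ℕ := nat_lit 0xa6aee185cb49d500c7cc82001d000000080400e0000000010801c08c40e0042007008c40e00e032e4240e032e4240e0f200707900250094000000000

noncomputable def done_t4_3 : ℕ := nat_lit 0x75eef5ade949d7c8cfe482001df07a78080000f1d03e107a0801c432cb05a820070832cb05a001800080001800080000000000000000000000000000

noncomputable def done_t4_4 : ℕ := nat_lit 0x82000010000008220018000060010100000e07020001680000020b000010000000540000000000100000000000000000000000000000000000000000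

noncomputable def done_t5_0 : ℕ := nat_lit 0xc840d214a40b01c6a5470185443762980610be307fb8779ab6d4d5dc023ecacbd31bdc063ec3793c83353917c8335607c44bfbe227c4b912c1c1ddf9

noncomputable def done_t5_1 : ℕ := nat_lit 0x96cd9a54c1de21c7b405244ba7920c0c9124df0d1302810e043a208444a6a81068808440a6a0ec6fd7a906c2fd7a91f3f31001f9883100c42424000e

noncomputable def done_t5_2 : ℕ := nat_lit 0x499df819c15f3cc125e00101c42000400001e000000000400c1c008009248030700080092480ecab14200ecab14201f0d000f8680184061000000000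

noncomputable def done_t5_3 : ℕ := nat_lit 0x9addfa5f455f3dc7b5e40101c7b23ad40000f00d130e10d6081c206bf308182070806bf3081004000800004000800000000000000000000000000000

noncomputable def done_t5_4 : ℕ := nat_lit 0x4100010002000010000340020008040100070e0020008700002019000400000000230000000000400000000000000000000000000000000000000000

noncomputable def doneC : TC := ⟨Cfsg.Agent.Spor.HeC.P4, [[2], [3], [4], [5]], 480, 512, 9, 5, [done_tr0, done_tr1, done_tr2],
  [[done_t0_0, done_t0_1, done_t0_2, done_t0_3, done_t0_4],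
   [done_t1_0, done_t1_1, done_t1_2, done_t1_3, done_t1_4],
   [done_t2_0, done_t2_1, done_t2_2, done_t2_3, done_t2_4],
   [done_t3_0, done_t3_1, done_t3_2, done_t3_3, done_t3_4],
   [done_t4_0, done_t4_1, done_t4_2, done_t4_3, done_t4_4],
   [done_t5_0, done_t5_1, done_t5_2, done_t5_3, done_t5_4]]⟩

theorem done_s : doneC.structC Cfsg.Agent.Spor.HeC.A4.act = true :=
  by decide +kernel

theorem done_c0_0 : doneC.coverC Cfsg.Agent.Spor.HeC.A4.act 0 true [(2, 0), (0, 0), (3, 0), (6, 0), (9, 0), (12, 0)] [] 0 (ones 480) = true :=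
  by decide +kernel

theorem done_j0 : doneC.JustS Cfsg.Agent.Spor.HeC.A4.π 0 (ones 480) :=
  TC.cover_step Cfsg.Agent.Spor.HeC.A4.spec done_s (TC.justS_zero 0) done_c0_0

theorem done_c1_0 : doneC.coverC Cfsg.Agent.Spor.HeC.A4.act 1 true [(5, 0), (18, 0), (21, 0), (24, 0), (48, 2), (54, 6)] [(false, 0, 1, 362), (false, 0, 1, 336), (false, 0, 1, 429), (false, 0, 1, 434), (false, 0, 1, 319), (false, 0, 1, 414), (false, 0, 1, 419), (false, 0, 1, 444), (false, 0, 1, 477), (false, 0, 1, 474)] 0 (ones 480) = true :=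
  by decide +kernel

theorem done_j1 : doneC.JustS Cfsg.Agent.Spor.HeC.A4.π 1 (ones 480) :=
  TC.cover_step Cfsg.Agent.Spor.HeC.A4.spec done_s (TC.justS_zero 1) done_c1_0

theorem done_c2_0 : doneC.coverC Cfsg.Agent.Spor.HeC.A4.act 2 true [(8, 0), (27, 0), (30, 0), (33, 0), (48, 3), (51, 1)] [(true, 0, 0, 0), (false, 3, 1, 0), (false, 3, 1, 286), (false, 3, 1, 460), (false, 3, 1, 461), (false, 3, 1, 362), (false, 3, 1, 384), (false, 3, 1, 378), (false, 3, 1, 382), (false, 3, 1, 454), (false, 3, 1, 437)] 0 (ones 480) = true :=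
  by decide +kernel

theorem done_j2 : doneC.JustS Cfsg.Agent.Spor.HeC.A4.π 2 (ones 480) :=
  TC.cover_step Cfsg.Agent.Spor.HeC.A4.spec done_s (TC.justS_zero 2) done_c2_0

theorem done_c3_0 : doneC.coverC Cfsg.Agent.Spor.HeC.A4.act 3 true [(11, 0), (18, 1), (36, 0), (39, 0), (45, 0), (46, 4), (27, 1)] [(true, 1, 0, 0), (false, 6, 1, 0), (false, 6, 1, 2), (false, 6, 1, 328), (false, 6, 1, 362), (false, 6, 1, 434), (false, 6, 1, 414)] 0 (ones 480) = true :=
  by decide +kernel

theorem done_j3 : doneC.JustS Cfsg.Agent.Spor.HeC.A4.π 3 (ones 480) :=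
  TC.cover_step Cfsg.Agent.Spor.HeC.A4.spec done_s (TC.justS_zero 3) done_c3_0

theorem done_c4_0 : doneC.coverC Cfsg.Agent.Spor.HeC.A4.act 4 true [(14, 0), (9, 1), (21, 1), (36, 1), (45, 2), (45, 4), (46, 2), (30, 1)] [(true, 2, 0, 0), (false, 46, 0, 193), (false, 46, 0, 249), (false, 46, 0, 446)] 0 (ones 480) = true :=
  by decide +kernel

theorem done_j4 : doneC.JustS Cfsg.Agent.Spor.HeC.A4.π 4 (ones 480) :=
  TC.cover_step Cfsg.Agent.Spor.HeC.A4.spec done_s (TC.justS_zero 4) done_c4_0

theorem done_c5_0 : doneC.coverC Cfsg.Agent.Spor.HeC.A4.act 5 true [(17, 0), (12, 1), (24, 1), (39, 1), (45, 1), (45, 3), (46, 1), (33, 1)] [(true, 3, 0, 0), (false, 46, 3, 119), (false, 46, 3, 155)] 0 (ones 480) = true :=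
  by decide +kernel

theorem done_j5 : doneC.JustS Cfsg.Agent.Spor.HeC.A4.π 5 (ones 480) :=
  TC.cover_step Cfsg.Agent.Spor.HeC.A4.spec done_s (TC.justS_zero 5) done_c5_0

theorem done : doneC.Done Cfsg.Agent.Spor.HeC.A4.π :=
  TC.done_of Cfsg.Agent.Spor.HeC.A4.spec sat done_s ⟨done_j0, done_j1, done_j2, done_j3, done_j4, done_j5, trivial⟩

end A4

theorem b4 : Bound Cfsg.Agent.Spor.HeC.P4 80640 :=
  A4.done.bound b3 (ws := [[2], [3], [4], [5]]) (c1 := [(57, 0), (57, 0), (57, 0), (57, 0)]) (c2 := [(27, 0), (30, 0), (33, 0), (36, 0), (39, 0), (42, 0), (45, 0)]) (by decide +kernel) ⟨inSub_of_mem (by decide), inSub_of_mem (by decide), inSub_of_mem (by decide), inSub_of_mem (by decide), trivial⟩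

def P : Pres := ⟨[0, 1, 2, 3, 4, 5, 6],
  [[0, 1, 0, 1, 0, 1, 0, 1],
   [0, 2, 0, 2],
   [0, 3, 0, 3],
   [0, 4, 0, 4],
   [0, 5, 0, 5],
   [0, 6, 0, 6],
   [1, 2, 1, 2, 1, 2],
   [1, 3, 1, 3],
   [1, 4, 1, 4],
   [1, 5, 1, 5],
   [1, 6, 1, 6],
   [2, 3, 2, 3, 2, 3, 2, 3, 2, 3, 2, 3, 2, 3, 2, 3, 2, 3, 2, 3],
   [2, 4, 2, 4],
   [2, 5, 2, 5],
   [2, 6, 2, 6],
   [3, 4, 3, 4, 3, 4],
   [3, 5, 3, 5, 3, 5],
   [3, 6, 3, 6, 3, 6],
   [4, 5, 4, 5],
   [4, 6, 4, 6],
   [5, 6, 5, 6, 5, 6, 5, 6],
   [4, 6, 5, 6, 5],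
   [4, 2, 1, 0, 2, 1, 0, 2, 1, 0],
   [0, 3, 2, 3, 2, 3, 2, 3, 2, 3, 2],
   [2, 3, 5, 6, 2, 3, 5, 6, 2, 3, 5, 6, 2, 3, 5, 6]]⟩

theorem l0 : Conseq Cfsg.Agent.Spor.HeC.P [2, 3, 2, 3, 4, 3, 2, 3, 4, 2, 3, 2, 3, 4, 3] :=
  Conseq.sub l2 (ws := [[0], [1], [2], [3], [4]]) (c1 := [(75, 0), (75, 0), (75, 0), (75, 0), (75, 0)]) (c2 := [(0, 0), (3, 0), (6, 0), (9, 0), (18, 0), (21, 0), (24, 0), (33, 0), (36, 0), (45, 0), (66, 0), (69, 0)]) (by decide +kernel) (by decide +kernel)

end Cfsg.Agent.Spor.HeC
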